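import Cfsg.Agent.Lib.Helper29.S1685.Data

set_option autoImplicit false
set_option Elab.async false

namespace Cfsg.Agent.Lib.Helper29.S1685

open Cfsg.Agent.Lib.Helper29.TcTrace Cfsg.Agent.Lib.Helper29.TcCert Cfsg.Agent.Lib.Helper29.TcPerm

theorem lblk_0 : chkPBlk P 5 31 40 14080 0 0x4102741d082050411d01410481a04819d033990729c8310520 = true := by decide +kernel
theorem lblk_1 : chkPBlk P 5 31 40 14080 1 0x38ce841ca74146418c6741ce819d074146820ce73a06821d05 = true := by decide +kernel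
theorem lblk_2 : chkPBlk P 5 31 40 14080 2 0x19c8219d083886419ce841c833a107288a4108833a06741c43 = true := by decide +kernel
theorem lblk_3 : chkPBlk P 5 31 40 14080 3 0x2104339d03090452086339d083904339d0839107298a409482 = true := by decide +kernel
theorem lblk_4 : chkPBlk P 5 31 40 14080 4 0x204822086339d032908218ce7420e740d07218a33148120865 = true := by decide +kernel
theorem lblk_5 : chkPBlk P 5 31 40 14080 5 0x40c67410e81a0e331ca6290a40904628ca40904319d04204c5 = true := by decide +kernel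
theorem lblk_6 : chkPBlk P 5 31 40 14080 6 0x208674146431485204a40904410c67408c5194812088218ce7 = true := by decide +kernel
theorem lblk_7 : chkPBlk P 5 31 40 14080 7 0x1104319d0410ce819d07420c6298a32148131ca628c8520482 = true := by decide +kernel
theorem lblk_8 : chkPBlk P 5 31 40 14080 8 0x19c66298a3218a32148129024110433a0c7298a32148129024 = true := by decide +kernel
theorem lblk_9 : chkPBlk P 5 31 40 14080 9 0x2902410c8219c67398c528cc5190c6394a3314642902520482 = true := by decide +kernel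
theorem lblk_10 : chkPBlk P 5 31 40 14080 10 0x214812902410ce839886394a33146431464290252048220867 = true := by decide +kernel
theorem lblk_11 : chkPBlk P 5 31 40 14080 11 0x198c7298e528cc5190a32102241c4631ca5198a5198a3218a3 = true := by decide +kernel
theorem lblk_12 : chkPBlk P 5 31 40 14080 12 0x314642902520482198a321481114812086410c66218a231ca5 = true := by decide +kernel
theorem lblk_13 : chkPBlk P 5 31 40 14080 13 0x2946628c8628c852048219cc839886394c729466394a331464 = true := by decide +kernel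
theorem lblk_14 : chkPBlk P 5 31 40 14080 14 0x118c639446394a3394a3190283a0e631ca2310c5118e528cc7 = true := by decide +kernel
theorem lblk_15 : chkPBlk P 5 31 40 14080 15 0x29024118e528ca3204c5190a40904520482208c6214e6218e5 = true := by decide +kernel
theorem lblk_16 : chkPBlk P 5 31 40 14080 16 0x3990731107310c728907310c7288c729466394a33146431464 = true := by decide +kernel
theorem lblk_17 : chkPBlk P 5 31 40 14080 17 0x298c429cc431ca241cc431ca231ca5198e528cc5190a409043 = true := by decide +kernel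
theorem lblk_18 : chkPBlk P 5 31 40 14080 18 0x29025204a6310e731cc4394c7298c7288e43944340d0741cc7 = true := by decide +kernel
theorem lblk_19 : chkPBlk P 5 31 40 14080 19 0x29466394a33146429028398863944528cc7294651908131464 = true := by decide +kernel
theorem lblk_20 : chkPBlk P 5 31 40 14080 20 0x10ce641ce641cc4394e641cc439507310c728907310c7288c7 = true := by decide +kernel
theorem lblk_21 : chkPBlk P 5 31 40 14080 21 0x3950739907310e541cc431ca241cc431ca231ca5198a321481 = true := by decide +kernel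
theorem lblk_22 : chkPBlk P 5 31 40 14080 22 0x30c6729ce619cc4318e5390e51208841d03398a6310e731cc4 = true := by decide +kernel
theorem lblk_23 : chkPBlk P 5 31 40 14080 23 0x41ce641cc439485120e6218e511ca518c86394a328c8628c85 = true := by decide +kernel
theorem lblk_24 : chkPBlk P 5 31 40 14080 24 0x398872a0e7320e621ca839886394483988639446394a331464 = true := by decide +kernel
theorem lblk_25 : chkPBlk P 5 31 40 14080 25 0x218e5118e528cc5190221a1033a0e73206731067320e621cc8 = true := by decide +kernel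
theorem lblk_26 : chkPBlk P 5 31 40 14080 26 0x19ca619ce619cc441ce640ce6220e621ca839cc8398872a0e6 = true := by decide +kernel
theorem lblk_27 : chkPBlk P 5 31 40 14080 27 0x41cc431ca2394a331ca5194c33948339cc31986721d0542088 = true := by decide +kernel
theorem lblk_28 : chkPBlk P 5 31 40 14080 28 0x39446394a319ca839cc819cc42150739907310e541c87288e3 = true := by decide +kernel
theorem lblk_29 : chkPBlk P 5 31 40 14080 29 0x2210339507399033988839cc8398872a0e7320e621ca839886 = true := by decide +kernel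
theorem lblk_30 : chkPBlk P 5 31 40 14080 30 0x220e621ca639445184481210819d0440ce73086730ce640ce6 = true := by decide +kernel
theorem lblk_31 : chkPBlk P 5 31 40 14080 31 0x3a0c74150440ca73106739868220673986819cc441ce640ce6 = true := by decide +kernel
theorem lblk_32 : chkPBlk P 5 31 40 14080 32 0x3a0e439507120e7320e621ca8390e5120e6218e51146729863 = true := by decide +kernel
theorem lblk_33 : chkPBlk P 5 31 40 14080 33 0x310e541cc431ca210c672a10339cc322103395073990339888 = true := by decide +kernel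
theorem lblk_34 : chkPBlk P 5 31 40 14080 34 0x220673986840ce839cc819cc4420672a0e7320673110739907 = true := by decide +kernel
theorem lblk_35 : chkPBlk P 5 31 40 14080 35 0x310e510501409074150440d033844339903398681210819ca8 = true := by decide +kernel
theorem lblk_36 : chkPBlk P 5 31 40 14080 36 0x418e82a088394a418ce63a0a820c67320831a08819ce61a067 = true := by decide +kernel
theorem lblk_37 : chkPBlk P 5 31 40 14080 37 0x220e840ce541ce640ce6220e8390e541ce641cc43948519d07 = true := by decide +kernel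
theorem lblk_38 : chkPBlk P 5 31 40 14080 38 0x21ca11086820c6729cc3409033a1033950440ce730d083a067 = true := by decide +kernel
theorem lblk_39 : chkPBlk P 5 31 40 14080 39 0x30d0240ce840ce54110339cc34206741ce640ce6220e7320e6 = true := by decide +kernel
theorem lblk_40 : chkPBlk P 5 31 40 14080 40 0x1844819c8339901409074150440d03394e64210819d0440ce7 = true := by decide +kernel
theorem lblk_41 : chkPBlk P 5 31 40 14080 41 0x2908819ce8290e74150418ce6410631a1013a0c74150441048 = true := by decide +kernel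
theorem lblk_42 : chkPBlk P 5 31 40 14080 42 0x40ce541ce640ce62104338ce83a0c7415072148440ce7418e8 = true := by decide +kernel
theorem lblk_43 : chkPBlk P 5 31 40 14080 43 0x394e64208819c681a04819d0819ca822067398681a0e819c88 = true := by decide +kernel
theorem lblk_44 : chkPBlk P 5 31 40 14080 44 0x41ce640ce4084482104340ce53a0281210240ce74150440d03 = true := by decide +kernel
theorem lblk_45 : chkPBlk P 5 31 40 14080 45 0x4204819ce82a0881a06729cc81206840ce8220673986840ce5 = true := by decide +kernel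
theorem lblk_46 : chkPBlk P 5 31 40 14080 46 0x3a1013a0c741504410481a0672a0483a0a82206819ce63a028 = true := by decide +kernel
theorem lblk_47 : chkPBlk P 5 31 40 14080 47 0x3a0c74148440ce74148819d07418e829d05410282050241103 = true := by decide +kernel
theorem lblk_48 : chkPBlk P 5 31 40 14080 48 0x40ce8220673886719d07419072a08819d07418a541107418a8 = true := by decide +kernel
theorem lblk_49 : chkPBlk P 5 31 40 14080 49 0x3a02812068120673a0a82206819ca7321034110338d0240ce8 = true := by decide +kernel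
theorem lblk_50 : chkPBlk P 5 31 40 14080 50 0x19c88420280a0483a0c7415044104819d03394e82a08819d04 = true := by decide +kernel
theorem lblk_51 : chkPBlk P 5 31 40 14080 51 0x405081206741504420673a04819d0819ca8220e12048241048 = true := by decide +kernel
theorem lblk_52 : chkPBlk P 5 31 40 14080 52 0x31d054208240d033a0e74050241d063a0a82208240ce819ca7 = true := by decide +kernel
theorem lblk_53 : chkPBlk P 5 31 40 14080 53 0x415043a0a80a08840ce83a0c7414e82a0814110412067220e8 = true := by decide +kernel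
theorem lblk_54 : chkPBlk P 5 31 40 14080 54 0x4210510ce33a0c64146740ce83a0c5290e219c6741d063a0c7 = true := by decide +kernel
theorem lblk_55 : chkPBlk P 5 31 40 14080 55 0x3a06729d023a0a8220673a02812068120674150440d0219c67 = true := by decide +kernel
theorem lblk_56 : chkPBlk P 5 31 40 14080 56 0x3a0c74150440ce829d07405043a02812067418e82a08820903 = true := by decide +kernel
theorem lblk_57 : chkPBlk P 5 31 40 14080 57 0x42081410483a10808ce83a0c7414e82a081410481a08240ce4 = true := by decide +kernel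
theorem lblk_58 : chkPBlk P 5 31 40 14080 58 0x120682090339d073a02811d08410481a067405081a04819d08 = true := by decide +kernel
theorem lblk_59 : chkPBlk P 5 31 40 14080 59 0x41028220e33a10741504420473a0e819d07419053a0a820504 = true := by decide +kernel
theorem lblk_60 : chkPBlk P 5 31 40 14080 60 0x19d033a0e831d053a0c84086719d07418e831d05410e829d05 = true := by decide +kernel
theorem lblk_61 : chkPBlk P 5 31 40 14080 61 0x4050411d0141d063a0a810ce810ce83086710ce7418c518867 = true := by decide +kernel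
theorem lblk_62 : chkPBlk P 5 31 40 14080 62 0x3a0e831d07415040a08240d04120673a0e831d054104819d07 = true := by decide +kernel
theorem lblk_63 : chkPBlk P 5 31 40 14080 63 0x3a0a8205041206719d07418e82a087418e741d0741d0141043 = true := by decide +kernel
theorem lblk_64 : chkPBlk P 5 31 40 14080 64 0x3a0e80a0481a1084210219c6741d063a0c7415043a0a820504 = true := by decide +kernel
theorem lblk_65 : chkPBlk P 5 31 40 14080 65 0x418e82a08741504410e82a0814090339d0740ce742028120e8 = true := by decide +kernel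
theorem lblk_66 : chkPBlk P 5 31 40 14080 66 0x31d053a0c7418e82a087288673a0e829ce819ce219c67420c7 = true := by decide +kernel
theorem lblk_67 : chkPBlk P 5 31 40 14080 67 0x3a10741c6741d0741cc219c4338ce83a0c33a04339d033a0e8 = true := by decide +kernel
theorem lblk_68 : chkPBlk P 5 31 40 14080 68 0x2a08742028208e82a0814104819c6741d063a0a82208219ce8 = true := by decide +kernel
theorem lblk_69 : chkPBlk P 5 31 40 14080 69 0x4210810ce33a0e831d0519d0738ce741d0810ce33a0e7418e8 = true := by decide +kernel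
theorem lblk_70 : chkPBlk P 5 31 40 14080 70 0x38ce73a0e84086719d033a0e831d053a0c7420e83a0c741507 = true := by decide +kernel
theorem lblk_71 : chkPBlk P 5 31 40 14080 71 0x39d0720c633a06740ce83a0e83a0e83a0e841d0819ce73a0e8 = true := by decide +kernel
theorem lblk_72 : chkPBlk P 5 31 40 14080 72 0x3a10418ce739c4339c4338ce810ce710ce33a0e83a0e83a0e8 = true := by decide +kernel
theorem lblk_73 : chkPBlk P 5 31 40 14080 73 0x3904338c6740ce83a0e741d083a0e841d0840c4338ce83a0e8 = true := by decide +kernel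
theorem lblk_74 : chkPBlk P 5 31 40 14080 74 0x3886719d0740ce839ce33a0e839ce71886719d074086720c67 = true := by decide +kernel
theorem lblk_75 : chkPBlk P 5 31 40 14080 75 0x19c6739c6738ce419c8338ce719ce719ce73906319ce308843 = true := by decide +kernel
theorem lblk_76 : chkPBlk P 5 31 40 14080 76 0x10ce438ce319ce719c6739ce72086719c6739c830904310ce2 = true := by decide +kernel
theorem lblk_77 : chkPBlk P 5 31 40 14080 77 0x18c8318c63190411086719c4338c6219c671886719ca309043 = true := by decide +kernel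
theorem lblk_78 : chkPBlk P 5 31 40 14080 78 0x290422088320841108611148318c4320c630886418c6218c63 = true := by decide +kernel
theorem lblk_79 : chkPBlk P 5 31 40 14080 79 0x1a0e440ce539903394e628ce62110729cc53988129cc411869 = true := by decide +kernel
theorem lblk_80 : chkPBlk P 5 31 40 14080 80 0x19ca720ce5389071a04819c8819ca440ce440ce5398e6394e6 = true := by decide +kernel
theorem lblk_81 : chkPBlk P 5 31 40 14080 81 0x41c2819c474050240ce34104819c8440ce34104819c8819ca8 = true := by decide +kernel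
theorem lblk_82 : chkPBlk P 5 31 40 14080 82 0x40ce329103389040a08240ce34104819c8820903390e310ce4 = true := by decide +kernel
theorem lblk_83 : chkPBlk P 5 31 40 14080 83 0x19c633882219c6819d0240ce13a0e80a08240ce23a1040a082 = true := by decide +kernel
theorem lblk_84 : chkPBlk P 5 31 40 14080 84 0x2a08240ce1410a82050412067120814104819c682a08141048 = true := by decide +kernel
theorem lblk_85 : chkPBlk P 5 31 40 14080 85 0x4090338ce741d08205041206709ce81a087415040a08240ce2 = true := by decide +kernel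
theorem lblk_86 : chkPBlk P 5 31 40 14080 86 0x40ce24146821d0541028209033884819c21208671208819d01 = true := by decide +kernel
theorem lblk_87 : chkPBlk P 5 31 40 14080 87 0x40ce1395040a08240ce541105410282090338468215040a082 = true := by decide +kernel
theorem lo_0_1 : ∀ b, 0 ≤ b → b < 1 → ∃ J, chkPBlk P 5 31 40 14080 b J = true := fun b h1 h2 => by
  have hb : b = 0 := Nat.le_antisymm (Nat.le_of_lt_succ h2) h1
  subst hb; exact ⟨_, lblk_0⟩
theorem lo_1_2 : ∀ b, 1 ≤ b → b < 2 → ∃ J, chkPBlk P 5 31 40 14080 b J = true := fun b h1 h2 => by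
  have hb : b = 1 := Nat.le_antisymm (Nat.le_of_lt_succ h2) h1
  subst hb; exact ⟨_, lblk_1⟩
theorem lo_0_2 : ∀ b, 0 ≤ b → b < 2 → ∃ J, chkPBlk P 5 31 40 14080 b J = true := fun b h1 h2 =>
  if h : b < 1 then lo_0_1 b h1 h else lo_1_2 b (Nat.le_of_not_lt h) h2
theorem lo_2_3 : ∀ b, 2 ≤ b → b < 3 → ∃ J, chkPBlk P 5 31 40 14080 b J = true := fun b h1 h2 => by
  have hb : b = 2 := Nat.le_antisymm (Nat.le_of_lt_succ h2) h1
  subst hb; exact ⟨_, lblk_2⟩
theorem lo_3_4 : ∀ b, 3 ≤ b → b < 4 → ∃ J, chkPBlk P 5 31 40 14080 b J = true := fun b h1 h2 => by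
  have hb : b = 3 := Nat.le_antisymm (Nat.le_of_lt_succ h2) h1
  subst hb; exact ⟨_, lblk_3⟩
theorem lo_4_5 : ∀ b, 4 ≤ b → b < 5 → ∃ J, chkPBlk P 5 31 40 14080 b J = true := fun b h1 h2 => by
  have hb : b = 4 := Nat.le_antisymm (Nat.le_of_lt_succ h2) h1
  subst hb; exact ⟨_, lblk_4⟩
theorem lo_3_5 : ∀ b, 3 ≤ b → b < 5 → ∃ J, chkPBlk P 5 31 40 14080 b J = true := fun b h1 h2 =>
  if h : b < 4 then lo_3_4 b h1 h else lo_4_5 b (Nat.le_of_not_lt h) h2
theorem lo_2_5 : ∀ b, 2 ≤ b → b < 5 → ∃ J, chkPBlk P 5 31 40 14080 b J = true := fun b h1 h2 =>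
  if h : b < 3 then lo_2_3 b h1 h else lo_3_5 b (Nat.le_of_not_lt h) h2
theorem lo_0_5 : ∀ b, 0 ≤ b → b < 5 → ∃ J, chkPBlk P 5 31 40 14080 b J = true := fun b h1 h2 =>
  if h : b < 2 then lo_0_2 b h1 h else lo_2_5 b (Nat.le_of_not_lt h) h2
theorem lo_5_6 : ∀ b, 5 ≤ b → b < 6 → ∃ J, chkPBlk P 5 31 40 14080 b J = true := fun b h1 h2 => by
  have hb : b = 5 := Nat.le_antisymm (Nat.le_of_lt_succ h2) h1
  subst hb; exact ⟨_, lblk_5⟩
theorem lo_6_7 : ∀ b, 6 ≤ b → b < 7 → ∃ J, chkPBlk P 5 31 40 14080 b J = true := fun b h1 h2 => by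
  have hb : b = 6 := Nat.le_antisymm (Nat.le_of_lt_succ h2) h1
  subst hb; exact ⟨_, lblk_6⟩
theorem lo_7_8 : ∀ b, 7 ≤ b → b < 8 → ∃ J, chkPBlk P 5 31 40 14080 b J = true := fun b h1 h2 => by
  have hb : b = 7 := Nat.le_antisymm (Nat.le_of_lt_succ h2) h1
  subst hb; exact ⟨_, lblk_7⟩
theorem lo_6_8 : ∀ b, 6 ≤ b → b < 8 → ∃ J, chkPBlk P 5 31 40 14080 b J = true := fun b h1 h2 =>
  if h : b < 7 then lo_6_7 b h1 h else lo_7_8 b (Nat.le_of_not_lt h) h2
theorem lo_5_8 : ∀ b, 5 ≤ b → b < 8 → ∃ J, chkPBlk P 5 31 40 14080 b J = true := fun b h1 h2 =>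
  if h : b < 6 then lo_5_6 b h1 h else lo_6_8 b (Nat.le_of_not_lt h) h2
theorem lo_8_9 : ∀ b, 8 ≤ b → b < 9 → ∃ J, chkPBlk P 5 31 40 14080 b J = true := fun b h1 h2 => by
  have hb : b = 8 := Nat.le_antisymm (Nat.le_of_lt_succ h2) h1
  subst hb; exact ⟨_, lblk_8⟩
theorem lo_9_10 : ∀ b, 9 ≤ b → b < 10 → ∃ J, chkPBlk P 5 31 40 14080 b J = true := fun b h1 h2 => by
  have hb : b = 9 := Nat.le_antisymm (Nat.le_of_lt_succ h2) h1
  subst hb; exact ⟨_, lblk_9⟩
theorem lo_10_11 : ∀ b, 10 ≤ b → b < 11 → ∃ J, chkPBlk P 5 31 40 14080 b J = true := fun b h1 h2 => by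
  have hb : b = 10 := Nat.le_antisymm (Nat.le_of_lt_succ h2) h1
  subst hb; exact ⟨_, lblk_10⟩
theorem lo_9_11 : ∀ b, 9 ≤ b → b < 11 → ∃ J, chkPBlk P 5 31 40 14080 b J = true := fun b h1 h2 =>
  if h : b < 10 then lo_9_10 b h1 h else lo_10_11 b (Nat.le_of_not_lt h) h2
theorem lo_8_11 : ∀ b, 8 ≤ b → b < 11 → ∃ J, chkPBlk P 5 31 40 14080 b J = true := fun b h1 h2 =>
  if h : b < 9 then lo_8_9 b h1 h else lo_9_11 b (Nat.le_of_not_lt h) h2
theorem lo_5_11 : ∀ b, 5 ≤ b → b < 11 → ∃ J, chkPBlk P 5 31 40 14080 b J = true := fun b h1 h2 =>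
  if h : b < 8 then lo_5_8 b h1 h else lo_8_11 b (Nat.le_of_not_lt h) h2
theorem lo_0_11 : ∀ b, 0 ≤ b → b < 11 → ∃ J, chkPBlk P 5 31 40 14080 b J = true := fun b h1 h2 =>
  if h : b < 5 then lo_0_5 b h1 h else lo_5_11 b (Nat.le_of_not_lt h) h2
theorem lo_11_12 : ∀ b, 11 ≤ b → b < 12 → ∃ J, chkPBlk P 5 31 40 14080 b J = true := fun b h1 h2 => by
  have hb : b = 11 := Nat.le_antisymm (Nat.le_of_lt_succ h2) h1
  subst hb; exact ⟨_, lblk_11⟩
theorem lo_12_13 : ∀ b, 12 ≤ b → b < 13 → ∃ J, chkPBlk P 5 31 40 14080 b J = true := fun b h1 h2 => by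
  have hb : b = 12 := Nat.le_antisymm (Nat.le_of_lt_succ h2) h1
  subst hb; exact ⟨_, lblk_12⟩
theorem lo_11_13 : ∀ b, 11 ≤ b → b < 13 → ∃ J, chkPBlk P 5 31 40 14080 b J = true := fun b h1 h2 =>
  if h : b < 12 then lo_11_12 b h1 h else lo_12_13 b (Nat.le_of_not_lt h) h2
theorem lo_13_14 : ∀ b, 13 ≤ b → b < 14 → ∃ J, chkPBlk P 5 31 40 14080 b J = true := fun b h1 h2 => by
  have hb : b = 13 := Nat.le_antisymm (Nat.le_of_lt_succ h2) h1
  subst hb; exact ⟨_, lblk_13⟩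
theorem lo_14_15 : ∀ b, 14 ≤ b → b < 15 → ∃ J, chkPBlk P 5 31 40 14080 b J = true := fun b h1 h2 => by
  have hb : b = 14 := Nat.le_antisymm (Nat.le_of_lt_succ h2) h1
  subst hb; exact ⟨_, lblk_14⟩
theorem lo_15_16 : ∀ b, 15 ≤ b → b < 16 → ∃ J, chkPBlk P 5 31 40 14080 b J = true := fun b h1 h2 => by
  have hb : b = 15 := Nat.le_antisymm (Nat.le_of_lt_succ h2) h1
  subst hb; exact ⟨_, lblk_15⟩
theorem lo_14_16 : ∀ b, 14 ≤ b → b < 16 → ∃ J, chkPBlk P 5 31 40 14080 b J = true := fun b h1 h2 =>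
  if h : b < 15 then lo_14_15 b h1 h else lo_15_16 b (Nat.le_of_not_lt h) h2
theorem lo_13_16 : ∀ b, 13 ≤ b → b < 16 → ∃ J, chkPBlk P 5 31 40 14080 b J = true := fun b h1 h2 =>
  if h : b < 14 then lo_13_14 b h1 h else lo_14_16 b (Nat.le_of_not_lt h) h2
theorem lo_11_16 : ∀ b, 11 ≤ b → b < 16 → ∃ J, chkPBlk P 5 31 40 14080 b J = true := fun b h1 h2 =>
  if h : b < 13 then lo_11_13 b h1 h else lo_13_16 b (Nat.le_of_not_lt h) h2
theorem lo_16_17 : ∀ b, 16 ≤ b → b < 17 → ∃ J, chkPBlk P 5 31 40 14080 b J = true := fun b h1 h2 => by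
  have hb : b = 16 := Nat.le_antisymm (Nat.le_of_lt_succ h2) h1
  subst hb; exact ⟨_, lblk_16⟩
theorem lo_17_18 : ∀ b, 17 ≤ b → b < 18 → ∃ J, chkPBlk P 5 31 40 14080 b J = true := fun b h1 h2 => by
  have hb : b = 17 := Nat.le_antisymm (Nat.le_of_lt_succ h2) h1
  subst hb; exact ⟨_, lblk_17⟩
theorem lo_18_19 : ∀ b, 18 ≤ b → b < 19 → ∃ J, chkPBlk P 5 31 40 14080 b J = true := fun b h1 h2 => by
  have hb : b = 18 := Nat.le_antisymm (Nat.le_of_lt_succ h2) h1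
  subst hb; exact ⟨_, lblk_18⟩
theorem lo_17_19 : ∀ b, 17 ≤ b → b < 19 → ∃ J, chkPBlk P 5 31 40 14080 b J = true := fun b h1 h2 =>
  if h : b < 18 then lo_17_18 b h1 h else lo_18_19 b (Nat.le_of_not_lt h) h2
theorem lo_16_19 : ∀ b, 16 ≤ b → b < 19 → ∃ J, chkPBlk P 5 31 40 14080 b J = true := fun b h1 h2 =>
  if h : b < 17 then lo_16_17 b h1 h else lo_17_19 b (Nat.le_of_not_lt h) h2
theorem lo_19_20 : ∀ b, 19 ≤ b → b < 20 → ∃ J, chkPBlk P 5 31 40 14080 b J = true := fun b h1 h2 => by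
  have hb : b = 19 := Nat.le_antisymm (Nat.le_of_lt_succ h2) h1
  subst hb; exact ⟨_, lblk_19⟩
theorem lo_20_21 : ∀ b, 20 ≤ b → b < 21 → ∃ J, chkPBlk P 5 31 40 14080 b J = true := fun b h1 h2 => by
  have hb : b = 20 := Nat.le_antisymm (Nat.le_of_lt_succ h2) h1
  subst hb; exact ⟨_, lblk_20⟩
theorem lo_21_22 : ∀ b, 21 ≤ b → b < 22 → ∃ J, chkPBlk P 5 31 40 14080 b J = true := fun b h1 h2 => by
  have hb : b = 21 := Nat.le_antisymm (Nat.le_of_lt_succ h2) h1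
  subst hb; exact ⟨_, lblk_21⟩
theorem lo_20_22 : ∀ b, 20 ≤ b → b < 22 → ∃ J, chkPBlk P 5 31 40 14080 b J = true := fun b h1 h2 =>
  if h : b < 21 then lo_20_21 b h1 h else lo_21_22 b (Nat.le_of_not_lt h) h2
theorem lo_19_22 : ∀ b, 19 ≤ b → b < 22 → ∃ J, chkPBlk P 5 31 40 14080 b J = true := fun b h1 h2 =>
  if h : b < 20 then lo_19_20 b h1 h else lo_20_22 b (Nat.le_of_not_lt h) h2
theorem lo_16_22 : ∀ b, 16 ≤ b → b < 22 → ∃ J, chkPBlk P 5 31 40 14080 b J = true := fun b h1 h2 =>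
  if h : b < 19 then lo_16_19 b h1 h else lo_19_22 b (Nat.le_of_not_lt h) h2
theorem lo_11_22 : ∀ b, 11 ≤ b → b < 22 → ∃ J, chkPBlk P 5 31 40 14080 b J = true := fun b h1 h2 =>
  if h : b < 16 then lo_11_16 b h1 h else lo_16_22 b (Nat.le_of_not_lt h) h2
theorem lo_0_22 : ∀ b, 0 ≤ b → b < 22 → ∃ J, chkPBlk P 5 31 40 14080 b J = true := fun b h1 h2 =>
  if h : b < 11 then lo_0_11 b h1 h else lo_11_22 b (Nat.le_of_not_lt h) h2
theorem lo_22_23 : ∀ b, 22 ≤ b → b < 23 → ∃ J, chkPBlk P 5 31 40 14080 b J = true := fun b h1 h2 => by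
  have hb : b = 22 := Nat.le_antisymm (Nat.le_of_lt_succ h2) h1
  subst hb; exact ⟨_, lblk_22⟩
theorem lo_23_24 : ∀ b, 23 ≤ b → b < 24 → ∃ J, chkPBlk P 5 31 40 14080 b J = true := fun b h1 h2 => by
  have hb : b = 23 := Nat.le_antisymm (Nat.le_of_lt_succ h2) h1
  subst hb; exact ⟨_, lblk_23⟩
theorem lo_22_24 : ∀ b, 22 ≤ b → b < 24 → ∃ J, chkPBlk P 5 31 40 14080 b J = true := fun b h1 h2 =>
  if h : b < 23 then lo_22_23 b h1 h else lo_23_24 b (Nat.le_of_not_lt h) h2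
theorem lo_24_25 : ∀ b, 24 ≤ b → b < 25 → ∃ J, chkPBlk P 5 31 40 14080 b J = true := fun b h1 h2 => by
  have hb : b = 24 := Nat.le_antisymm (Nat.le_of_lt_succ h2) h1
  subst hb; exact ⟨_, lblk_24⟩
theorem lo_25_26 : ∀ b, 25 ≤ b → b < 26 → ∃ J, chkPBlk P 5 31 40 14080 b J = true := fun b h1 h2 => by
  have hb : b = 25 := Nat.le_antisymm (Nat.le_of_lt_succ h2) h1
  subst hb; exact ⟨_, lblk_25⟩
theorem lo_26_27 : ∀ b, 26 ≤ b → b < 27 → ∃ J, chkPBlk P 5 31 40 14080 b J = true := fun b h1 h2 => by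
  have hb : b = 26 := Nat.le_antisymm (Nat.le_of_lt_succ h2) h1
  subst hb; exact ⟨_, lblk_26⟩
theorem lo_25_27 : ∀ b, 25 ≤ b → b < 27 → ∃ J, chkPBlk P 5 31 40 14080 b J = true := fun b h1 h2 =>
  if h : b < 26 then lo_25_26 b h1 h else lo_26_27 b (Nat.le_of_not_lt h) h2
theorem lo_24_27 : ∀ b, 24 ≤ b → b < 27 → ∃ J, chkPBlk P 5 31 40 14080 b J = true := fun b h1 h2 =>
  if h : b < 25 then lo_24_25 b h1 h else lo_25_27 b (Nat.le_of_not_lt h) h2
theorem lo_22_27 : ∀ b, 22 ≤ b → b < 27 → ∃ J, chkPBlk P 5 31 40 14080 b J = true := fun b h1 h2 =>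
  if h : b < 24 then lo_22_24 b h1 h else lo_24_27 b (Nat.le_of_not_lt h) h2
theorem lo_27_28 : ∀ b, 27 ≤ b → b < 28 → ∃ J, chkPBlk P 5 31 40 14080 b J = true := fun b h1 h2 => by
  have hb : b = 27 := Nat.le_antisymm (Nat.le_of_lt_succ h2) h1
  subst hb; exact ⟨_, lblk_27⟩
theorem lo_28_29 : ∀ b, 28 ≤ b → b < 29 → ∃ J, chkPBlk P 5 31 40 14080 b J = true := fun b h1 h2 => by
  have hb : b = 28 := Nat.le_antisymm (Nat.le_of_lt_succ h2) h1
  subst hb; exact ⟨_, lblk_28⟩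
theorem lo_29_30 : ∀ b, 29 ≤ b → b < 30 → ∃ J, chkPBlk P 5 31 40 14080 b J = true := fun b h1 h2 => by
  have hb : b = 29 := Nat.le_antisymm (Nat.le_of_lt_succ h2) h1
  subst hb; exact ⟨_, lblk_29⟩
theorem lo_28_30 : ∀ b, 28 ≤ b → b < 30 → ∃ J, chkPBlk P 5 31 40 14080 b J = true := fun b h1 h2 =>
  if h : b < 29 then lo_28_29 b h1 h else lo_29_30 b (Nat.le_of_not_lt h) h2
theorem lo_27_30 : ∀ b, 27 ≤ b → b < 30 → ∃ J, chkPBlk P 5 31 40 14080 b J = true := fun b h1 h2 =>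
  if h : b < 28 then lo_27_28 b h1 h else lo_28_30 b (Nat.le_of_not_lt h) h2
theorem lo_30_31 : ∀ b, 30 ≤ b → b < 31 → ∃ J, chkPBlk P 5 31 40 14080 b J = true := fun b h1 h2 => by
  have hb : b = 30 := Nat.le_antisymm (Nat.le_of_lt_succ h2) h1
  subst hb; exact ⟨_, lblk_30⟩
theorem lo_31_32 : ∀ b, 31 ≤ b → b < 32 → ∃ J, chkPBlk P 5 31 40 14080 b J = true := fun b h1 h2 => by
  have hb : b = 31 := Nat.le_antisymm (Nat.le_of_lt_succ h2) h1
  subst hb; exact ⟨_, lblk_31⟩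
theorem lo_32_33 : ∀ b, 32 ≤ b → b < 33 → ∃ J, chkPBlk P 5 31 40 14080 b J = true := fun b h1 h2 => by
  have hb : b = 32 := Nat.le_antisymm (Nat.le_of_lt_succ h2) h1
  subst hb; exact ⟨_, lblk_32⟩
theorem lo_31_33 : ∀ b, 31 ≤ b → b < 33 → ∃ J, chkPBlk P 5 31 40 14080 b J = true := fun b h1 h2 =>
  if h : b < 32 then lo_31_32 b h1 h else lo_32_33 b (Nat.le_of_not_lt h) h2
theorem lo_30_33 : ∀ b, 30 ≤ b → b < 33 → ∃ J, chkPBlk P 5 31 40 14080 b J = true := fun b h1 h2 =>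
  if h : b < 31 then lo_30_31 b h1 h else lo_31_33 b (Nat.le_of_not_lt h) h2
theorem lo_27_33 : ∀ b, 27 ≤ b → b < 33 → ∃ J, chkPBlk P 5 31 40 14080 b J = true := fun b h1 h2 =>
  if h : b < 30 then lo_27_30 b h1 h else lo_30_33 b (Nat.le_of_not_lt h) h2
theorem lo_22_33 : ∀ b, 22 ≤ b → b < 33 → ∃ J, chkPBlk P 5 31 40 14080 b J = true := fun b h1 h2 =>
  if h : b < 27 then lo_22_27 b h1 h else lo_27_33 b (Nat.le_of_not_lt h) h2
theorem lo_33_34 : ∀ b, 33 ≤ b → b < 34 → ∃ J, chkPBlk P 5 31 40 14080 b J = true := fun b h1 h2 => by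
  have hb : b = 33 := Nat.le_antisymm (Nat.le_of_lt_succ h2) h1
  subst hb; exact ⟨_, lblk_33⟩
theorem lo_34_35 : ∀ b, 34 ≤ b → b < 35 → ∃ J, chkPBlk P 5 31 40 14080 b J = true := fun b h1 h2 => by
  have hb : b = 34 := Nat.le_antisymm (Nat.le_of_lt_succ h2) h1
  subst hb; exact ⟨_, lblk_34⟩
theorem lo_33_35 : ∀ b, 33 ≤ b → b < 35 → ∃ J, chkPBlk P 5 31 40 14080 b J = true := fun b h1 h2 =>
  if h : b < 34 then lo_33_34 b h1 h else lo_34_35 b (Nat.le_of_not_lt h) h2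
theorem lo_35_36 : ∀ b, 35 ≤ b → b < 36 → ∃ J, chkPBlk P 5 31 40 14080 b J = true := fun b h1 h2 => by
  have hb : b = 35 := Nat.le_antisymm (Nat.le_of_lt_succ h2) h1
  subst hb; exact ⟨_, lblk_35⟩
theorem lo_36_37 : ∀ b, 36 ≤ b → b < 37 → ∃ J, chkPBlk P 5 31 40 14080 b J = true := fun b h1 h2 => by
  have hb : b = 36 := Nat.le_antisymm (Nat.le_of_lt_succ h2) h1
  subst hb; exact ⟨_, lblk_36⟩
theorem lo_37_38 : ∀ b, 37 ≤ b → b < 38 → ∃ J, chkPBlk P 5 31 40 14080 b J = true := fun b h1 h2 => by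
  have hb : b = 37 := Nat.le_antisymm (Nat.le_of_lt_succ h2) h1
  subst hb; exact ⟨_, lblk_37⟩
theorem lo_36_38 : ∀ b, 36 ≤ b → b < 38 → ∃ J, chkPBlk P 5 31 40 14080 b J = true := fun b h1 h2 =>
  if h : b < 37 then lo_36_37 b h1 h else lo_37_38 b (Nat.le_of_not_lt h) h2
theorem lo_35_38 : ∀ b, 35 ≤ b → b < 38 → ∃ J, chkPBlk P 5 31 40 14080 b J = true := fun b h1 h2 =>
  if h : b < 36 then lo_35_36 b h1 h else lo_36_38 b (Nat.le_of_not_lt h) h2
theorem lo_33_38 : ∀ b, 33 ≤ b → b < 38 → ∃ J, chkPBlk P 5 31 40 14080 b J = true := fun b h1 h2 =>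
  if h : b < 35 then lo_33_35 b h1 h else lo_35_38 b (Nat.le_of_not_lt h) h2
theorem lo_38_39 : ∀ b, 38 ≤ b → b < 39 → ∃ J, chkPBlk P 5 31 40 14080 b J = true := fun b h1 h2 => by
  have hb : b = 38 := Nat.le_antisymm (Nat.le_of_lt_succ h2) h1
  subst hb; exact ⟨_, lblk_38⟩
theorem lo_39_40 : ∀ b, 39 ≤ b → b < 40 → ∃ J, chkPBlk P 5 31 40 14080 b J = true := fun b h1 h2 => by
  have hb : b = 39 := Nat.le_antisymm (Nat.le_of_lt_succ h2) h1
  subst hb; exact ⟨_, lblk_39⟩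
theorem lo_40_41 : ∀ b, 40 ≤ b → b < 41 → ∃ J, chkPBlk P 5 31 40 14080 b J = true := fun b h1 h2 => by
  have hb : b = 40 := Nat.le_antisymm (Nat.le_of_lt_succ h2) h1
  subst hb; exact ⟨_, lblk_40⟩
theorem lo_39_41 : ∀ b, 39 ≤ b → b < 41 → ∃ J, chkPBlk P 5 31 40 14080 b J = true := fun b h1 h2 =>
  if h : b < 40 then lo_39_40 b h1 h else lo_40_41 b (Nat.le_of_not_lt h) h2
theorem lo_38_41 : ∀ b, 38 ≤ b → b < 41 → ∃ J, chkPBlk P 5 31 40 14080 b J = true := fun b h1 h2 =>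
  if h : b < 39 then lo_38_39 b h1 h else lo_39_41 b (Nat.le_of_not_lt h) h2
theorem lo_41_42 : ∀ b, 41 ≤ b → b < 42 → ∃ J, chkPBlk P 5 31 40 14080 b J = true := fun b h1 h2 => by
  have hb : b = 41 := Nat.le_antisymm (Nat.le_of_lt_succ h2) h1
  subst hb; exact ⟨_, lblk_41⟩
theorem lo_42_43 : ∀ b, 42 ≤ b → b < 43 → ∃ J, chkPBlk P 5 31 40 14080 b J = true := fun b h1 h2 => by
  have hb : b = 42 := Nat.le_antisymm (Nat.le_of_lt_succ h2) h1
  subst hb; exact ⟨_, lblk_42⟩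
theorem lo_43_44 : ∀ b, 43 ≤ b → b < 44 → ∃ J, chkPBlk P 5 31 40 14080 b J = true := fun b h1 h2 => by
  have hb : b = 43 := Nat.le_antisymm (Nat.le_of_lt_succ h2) h1
  subst hb; exact ⟨_, lblk_43⟩
theorem lo_42_44 : ∀ b, 42 ≤ b → b < 44 → ∃ J, chkPBlk P 5 31 40 14080 b J = true := fun b h1 h2 =>
  if h : b < 43 then lo_42_43 b h1 h else lo_43_44 b (Nat.le_of_not_lt h) h2
theorem lo_41_44 : ∀ b, 41 ≤ b → b < 44 → ∃ J, chkPBlk P 5 31 40 14080 b J = true := fun b h1 h2 =>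
  if h : b < 42 then lo_41_42 b h1 h else lo_42_44 b (Nat.le_of_not_lt h) h2
theorem lo_38_44 : ∀ b, 38 ≤ b → b < 44 → ∃ J, chkPBlk P 5 31 40 14080 b J = true := fun b h1 h2 =>
  if h : b < 41 then lo_38_41 b h1 h else lo_41_44 b (Nat.le_of_not_lt h) h2
theorem lo_33_44 : ∀ b, 33 ≤ b → b < 44 → ∃ J, chkPBlk P 5 31 40 14080 b J = true := fun b h1 h2 =>
  if h : b < 38 then lo_33_38 b h1 h else lo_38_44 b (Nat.le_of_not_lt h) h2
theorem lo_22_44 : ∀ b, 22 ≤ b → b < 44 → ∃ J, chkPBlk P 5 31 40 14080 b J = true := fun b h1 h2 =>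
  if h : b < 33 then lo_22_33 b h1 h else lo_33_44 b (Nat.le_of_not_lt h) h2
theorem lo_0_44 : ∀ b, 0 ≤ b → b < 44 → ∃ J, chkPBlk P 5 31 40 14080 b J = true := fun b h1 h2 =>
  if h : b < 22 then lo_0_22 b h1 h else lo_22_44 b (Nat.le_of_not_lt h) h2
theorem lo_44_45 : ∀ b, 44 ≤ b → b < 45 → ∃ J, chkPBlk P 5 31 40 14080 b J = true := fun b h1 h2 => by
  have hb : b = 44 := Nat.le_antisymm (Nat.le_of_lt_succ h2) h1
  subst hb; exact ⟨_, lblk_44⟩
theorem lo_45_46 : ∀ b, 45 ≤ b → b < 46 → ∃ J, chkPBlk P 5 31 40 14080 b J = true := fun b h1 h2 => by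
  have hb : b = 45 := Nat.le_antisymm (Nat.le_of_lt_succ h2) h1
  subst hb; exact ⟨_, lblk_45⟩
theorem lo_44_46 : ∀ b, 44 ≤ b → b < 46 → ∃ J, chkPBlk P 5 31 40 14080 b J = true := fun b h1 h2 =>
  if h : b < 45 then lo_44_45 b h1 h else lo_45_46 b (Nat.le_of_not_lt h) h2
theorem lo_46_47 : ∀ b, 46 ≤ b → b < 47 → ∃ J, chkPBlk P 5 31 40 14080 b J = true := fun b h1 h2 => by
  have hb : b = 46 := Nat.le_antisymm (Nat.le_of_lt_succ h2) h1
  subst hb; exact ⟨_, lblk_46⟩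
theorem lo_47_48 : ∀ b, 47 ≤ b → b < 48 → ∃ J, chkPBlk P 5 31 40 14080 b J = true := fun b h1 h2 => by
  have hb : b = 47 := Nat.le_antisymm (Nat.le_of_lt_succ h2) h1
  subst hb; exact ⟨_, lblk_47⟩
theorem lo_48_49 : ∀ b, 48 ≤ b → b < 49 → ∃ J, chkPBlk P 5 31 40 14080 b J = true := fun b h1 h2 => by
  have hb : b = 48 := Nat.le_antisymm (Nat.le_of_lt_succ h2) h1
  subst hb; exact ⟨_, lblk_48⟩
theorem lo_47_49 : ∀ b, 47 ≤ b → b < 49 → ∃ J, chkPBlk P 5 31 40 14080 b J = true := fun b h1 h2 =>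
  if h : b < 48 then lo_47_48 b h1 h else lo_48_49 b (Nat.le_of_not_lt h) h2
theorem lo_46_49 : ∀ b, 46 ≤ b → b < 49 → ∃ J, chkPBlk P 5 31 40 14080 b J = true := fun b h1 h2 =>
  if h : b < 47 then lo_46_47 b h1 h else lo_47_49 b (Nat.le_of_not_lt h) h2
theorem lo_44_49 : ∀ b, 44 ≤ b → b < 49 → ∃ J, chkPBlk P 5 31 40 14080 b J = true := fun b h1 h2 =>
  if h : b < 46 then lo_44_46 b h1 h else lo_46_49 b (Nat.le_of_not_lt h) h2
theorem lo_49_50 : ∀ b, 49 ≤ b → b < 50 → ∃ J, chkPBlk P 5 31 40 14080 b J = true := fun b h1 h2 => by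
  have hb : b = 49 := Nat.le_antisymm (Nat.le_of_lt_succ h2) h1
  subst hb; exact ⟨_, lblk_49⟩
theorem lo_50_51 : ∀ b, 50 ≤ b → b < 51 → ∃ J, chkPBlk P 5 31 40 14080 b J = true := fun b h1 h2 => by
  have hb : b = 50 := Nat.le_antisymm (Nat.le_of_lt_succ h2) h1
  subst hb; exact ⟨_, lblk_50⟩
theorem lo_51_52 : ∀ b, 51 ≤ b → b < 52 → ∃ J, chkPBlk P 5 31 40 14080 b J = true := fun b h1 h2 => by
  have hb : b = 51 := Nat.le_antisymm (Nat.le_of_lt_succ h2) h1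
  subst hb; exact ⟨_, lblk_51⟩
theorem lo_50_52 : ∀ b, 50 ≤ b → b < 52 → ∃ J, chkPBlk P 5 31 40 14080 b J = true := fun b h1 h2 =>
  if h : b < 51 then lo_50_51 b h1 h else lo_51_52 b (Nat.le_of_not_lt h) h2
theorem lo_49_52 : ∀ b, 49 ≤ b → b < 52 → ∃ J, chkPBlk P 5 31 40 14080 b J = true := fun b h1 h2 =>
  if h : b < 50 then lo_49_50 b h1 h else lo_50_52 b (Nat.le_of_not_lt h) h2
theorem lo_52_53 : ∀ b, 52 ≤ b → b < 53 → ∃ J, chkPBlk P 5 31 40 14080 b J = true := fun b h1 h2 => by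
  have hb : b = 52 := Nat.le_antisymm (Nat.le_of_lt_succ h2) h1
  subst hb; exact ⟨_, lblk_52⟩
theorem lo_53_54 : ∀ b, 53 ≤ b → b < 54 → ∃ J, chkPBlk P 5 31 40 14080 b J = true := fun b h1 h2 => by
  have hb : b = 53 := Nat.le_antisymm (Nat.le_of_lt_succ h2) h1
  subst hb; exact ⟨_, lblk_53⟩
theorem lo_54_55 : ∀ b, 54 ≤ b → b < 55 → ∃ J, chkPBlk P 5 31 40 14080 b J = true := fun b h1 h2 => by
  have hb : b = 54 := Nat.le_antisymm (Nat.le_of_lt_succ h2) h1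
  subst hb; exact ⟨_, lblk_54⟩
theorem lo_53_55 : ∀ b, 53 ≤ b → b < 55 → ∃ J, chkPBlk P 5 31 40 14080 b J = true := fun b h1 h2 =>
  if h : b < 54 then lo_53_54 b h1 h else lo_54_55 b (Nat.le_of_not_lt h) h2
theorem lo_52_55 : ∀ b, 52 ≤ b → b < 55 → ∃ J, chkPBlk P 5 31 40 14080 b J = true := fun b h1 h2 =>
  if h : b < 53 then lo_52_53 b h1 h else lo_53_55 b (Nat.le_of_not_lt h) h2
theorem lo_49_55 : ∀ b, 49 ≤ b → b < 55 → ∃ J, chkPBlk P 5 31 40 14080 b J = true := fun b h1 h2 =>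
  if h : b < 52 then lo_49_52 b h1 h else lo_52_55 b (Nat.le_of_not_lt h) h2
theorem lo_44_55 : ∀ b, 44 ≤ b → b < 55 → ∃ J, chkPBlk P 5 31 40 14080 b J = true := fun b h1 h2 =>
  if h : b < 49 then lo_44_49 b h1 h else lo_49_55 b (Nat.le_of_not_lt h) h2
theorem lo_55_56 : ∀ b, 55 ≤ b → b < 56 → ∃ J, chkPBlk P 5 31 40 14080 b J = true := fun b h1 h2 => by
  have hb : b = 55 := Nat.le_antisymm (Nat.le_of_lt_succ h2) h1
  subst hb; exact ⟨_, lblk_55⟩
theorem lo_56_57 : ∀ b, 56 ≤ b → b < 57 → ∃ J, chkPBlk P 5 31 40 14080 b J = true := fun b h1 h2 => by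
  have hb : b = 56 := Nat.le_antisymm (Nat.le_of_lt_succ h2) h1
  subst hb; exact ⟨_, lblk_56⟩
theorem lo_55_57 : ∀ b, 55 ≤ b → b < 57 → ∃ J, chkPBlk P 5 31 40 14080 b J = true := fun b h1 h2 =>
  if h : b < 56 then lo_55_56 b h1 h else lo_56_57 b (Nat.le_of_not_lt h) h2
theorem lo_57_58 : ∀ b, 57 ≤ b → b < 58 → ∃ J, chkPBlk P 5 31 40 14080 b J = true := fun b h1 h2 => by
  have hb : b = 57 := Nat.le_antisymm (Nat.le_of_lt_succ h2) h1
  subst hb; exact ⟨_, lblk_57⟩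
theorem lo_58_59 : ∀ b, 58 ≤ b → b < 59 → ∃ J, chkPBlk P 5 31 40 14080 b J = true := fun b h1 h2 => by
  have hb : b = 58 := Nat.le_antisymm (Nat.le_of_lt_succ h2) h1
  subst hb; exact ⟨_, lblk_58⟩
theorem lo_59_60 : ∀ b, 59 ≤ b → b < 60 → ∃ J, chkPBlk P 5 31 40 14080 b J = true := fun b h1 h2 => by
  have hb : b = 59 := Nat.le_antisymm (Nat.le_of_lt_succ h2) h1
  subst hb; exact ⟨_, lblk_59⟩
theorem lo_58_60 : ∀ b, 58 ≤ b → b < 60 → ∃ J, chkPBlk P 5 31 40 14080 b J = true := fun b h1 h2 =>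
  if h : b < 59 then lo_58_59 b h1 h else lo_59_60 b (Nat.le_of_not_lt h) h2
theorem lo_57_60 : ∀ b, 57 ≤ b → b < 60 → ∃ J, chkPBlk P 5 31 40 14080 b J = true := fun b h1 h2 =>
  if h : b < 58 then lo_57_58 b h1 h else lo_58_60 b (Nat.le_of_not_lt h) h2
theorem lo_55_60 : ∀ b, 55 ≤ b → b < 60 → ∃ J, chkPBlk P 5 31 40 14080 b J = true := fun b h1 h2 =>
  if h : b < 57 then lo_55_57 b h1 h else lo_57_60 b (Nat.le_of_not_lt h) h2
theorem lo_60_61 : ∀ b, 60 ≤ b → b < 61 → ∃ J, chkPBlk P 5 31 40 14080 b J = true := fun b h1 h2 => by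
  have hb : b = 60 := Nat.le_antisymm (Nat.le_of_lt_succ h2) h1
  subst hb; exact ⟨_, lblk_60⟩
theorem lo_61_62 : ∀ b, 61 ≤ b → b < 62 → ∃ J, chkPBlk P 5 31 40 14080 b J = true := fun b h1 h2 => by
  have hb : b = 61 := Nat.le_antisymm (Nat.le_of_lt_succ h2) h1
  subst hb; exact ⟨_, lblk_61⟩
theorem lo_62_63 : ∀ b, 62 ≤ b → b < 63 → ∃ J, chkPBlk P 5 31 40 14080 b J = true := fun b h1 h2 => by
  have hb : b = 62 := Nat.le_antisymm (Nat.le_of_lt_succ h2) h1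
  subst hb; exact ⟨_, lblk_62⟩
theorem lo_61_63 : ∀ b, 61 ≤ b → b < 63 → ∃ J, chkPBlk P 5 31 40 14080 b J = true := fun b h1 h2 =>
  if h : b < 62 then lo_61_62 b h1 h else lo_62_63 b (Nat.le_of_not_lt h) h2
theorem lo_60_63 : ∀ b, 60 ≤ b → b < 63 → ∃ J, chkPBlk P 5 31 40 14080 b J = true := fun b h1 h2 =>
  if h : b < 61 then lo_60_61 b h1 h else lo_61_63 b (Nat.le_of_not_lt h) h2
theorem lo_63_64 : ∀ b, 63 ≤ b → b < 64 → ∃ J, chkPBlk P 5 31 40 14080 b J = true := fun b h1 h2 => by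
  have hb : b = 63 := Nat.le_antisymm (Nat.le_of_lt_succ h2) h1
  subst hb; exact ⟨_, lblk_63⟩
theorem lo_64_65 : ∀ b, 64 ≤ b → b < 65 → ∃ J, chkPBlk P 5 31 40 14080 b J = true := fun b h1 h2 => by
  have hb : b = 64 := Nat.le_antisymm (Nat.le_of_lt_succ h2) h1
  subst hb; exact ⟨_, lblk_64⟩
theorem lo_65_66 : ∀ b, 65 ≤ b → b < 66 → ∃ J, chkPBlk P 5 31 40 14080 b J = true := fun b h1 h2 => by
  have hb : b = 65 := Nat.le_antisymm (Nat.le_of_lt_succ h2) h1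
  subst hb; exact ⟨_, lblk_65⟩
theorem lo_64_66 : ∀ b, 64 ≤ b → b < 66 → ∃ J, chkPBlk P 5 31 40 14080 b J = true := fun b h1 h2 =>
  if h : b < 65 then lo_64_65 b h1 h else lo_65_66 b (Nat.le_of_not_lt h) h2
theorem lo_63_66 : ∀ b, 63 ≤ b → b < 66 → ∃ J, chkPBlk P 5 31 40 14080 b J = true := fun b h1 h2 =>
  if h : b < 64 then lo_63_64 b h1 h else lo_64_66 b (Nat.le_of_not_lt h) h2
theorem lo_60_66 : ∀ b, 60 ≤ b → b < 66 → ∃ J, chkPBlk P 5 31 40 14080 b J = true := fun b h1 h2 =>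
  if h : b < 63 then lo_60_63 b h1 h else lo_63_66 b (Nat.le_of_not_lt h) h2
theorem lo_55_66 : ∀ b, 55 ≤ b → b < 66 → ∃ J, chkPBlk P 5 31 40 14080 b J = true := fun b h1 h2 =>
  if h : b < 60 then lo_55_60 b h1 h else lo_60_66 b (Nat.le_of_not_lt h) h2
theorem lo_44_66 : ∀ b, 44 ≤ b → b < 66 → ∃ J, chkPBlk P 5 31 40 14080 b J = true := fun b h1 h2 =>
  if h : b < 55 then lo_44_55 b h1 h else lo_55_66 b (Nat.le_of_not_lt h) h2
theorem lo_66_67 : ∀ b, 66 ≤ b → b < 67 → ∃ J, chkPBlk P 5 31 40 14080 b J = true := fun b h1 h2 => by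
  have hb : b = 66 := Nat.le_antisymm (Nat.le_of_lt_succ h2) h1
  subst hb; exact ⟨_, lblk_66⟩
theorem lo_67_68 : ∀ b, 67 ≤ b → b < 68 → ∃ J, chkPBlk P 5 31 40 14080 b J = true := fun b h1 h2 => by
  have hb : b = 67 := Nat.le_antisymm (Nat.le_of_lt_succ h2) h1
  subst hb; exact ⟨_, lblk_67⟩
theorem lo_66_68 : ∀ b, 66 ≤ b → b < 68 → ∃ J, chkPBlk P 5 31 40 14080 b J = true := fun b h1 h2 =>
  if h : b < 67 then lo_66_67 b h1 h else lo_67_68 b (Nat.le_of_not_lt h) h2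
theorem lo_68_69 : ∀ b, 68 ≤ b → b < 69 → ∃ J, chkPBlk P 5 31 40 14080 b J = true := fun b h1 h2 => by
  have hb : b = 68 := Nat.le_antisymm (Nat.le_of_lt_succ h2) h1
  subst hb; exact ⟨_, lblk_68⟩
theorem lo_69_70 : ∀ b, 69 ≤ b → b < 70 → ∃ J, chkPBlk P 5 31 40 14080 b J = true := fun b h1 h2 => by
  have hb : b = 69 := Nat.le_antisymm (Nat.le_of_lt_succ h2) h1
  subst hb; exact ⟨_, lblk_69⟩
theorem lo_70_71 : ∀ b, 70 ≤ b → b < 71 → ∃ J, chkPBlk P 5 31 40 14080 b J = true := fun b h1 h2 => by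
  have hb : b = 70 := Nat.le_antisymm (Nat.le_of_lt_succ h2) h1
  subst hb; exact ⟨_, lblk_70⟩
theorem lo_69_71 : ∀ b, 69 ≤ b → b < 71 → ∃ J, chkPBlk P 5 31 40 14080 b J = true := fun b h1 h2 =>
  if h : b < 70 then lo_69_70 b h1 h else lo_70_71 b (Nat.le_of_not_lt h) h2
theorem lo_68_71 : ∀ b, 68 ≤ b → b < 71 → ∃ J, chkPBlk P 5 31 40 14080 b J = true := fun b h1 h2 =>
  if h : b < 69 then lo_68_69 b h1 h else lo_69_71 b (Nat.le_of_not_lt h) h2
theorem lo_66_71 : ∀ b, 66 ≤ b → b < 71 → ∃ J, chkPBlk P 5 31 40 14080 b J = true := fun b h1 h2 =>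
  if h : b < 68 then lo_66_68 b h1 h else lo_68_71 b (Nat.le_of_not_lt h) h2
theorem lo_71_72 : ∀ b, 71 ≤ b → b < 72 → ∃ J, chkPBlk P 5 31 40 14080 b J = true := fun b h1 h2 => by
  have hb : b = 71 := Nat.le_antisymm (Nat.le_of_lt_succ h2) h1
  subst hb; exact ⟨_, lblk_71⟩
theorem lo_72_73 : ∀ b, 72 ≤ b → b < 73 → ∃ J, chkPBlk P 5 31 40 14080 b J = true := fun b h1 h2 => by
  have hb : b = 72 := Nat.le_antisymm (Nat.le_of_lt_succ h2) h1
  subst hb; exact ⟨_, lblk_72⟩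
theorem lo_73_74 : ∀ b, 73 ≤ b → b < 74 → ∃ J, chkPBlk P 5 31 40 14080 b J = true := fun b h1 h2 => by
  have hb : b = 73 := Nat.le_antisymm (Nat.le_of_lt_succ h2) h1
  subst hb; exact ⟨_, lblk_73⟩
theorem lo_72_74 : ∀ b, 72 ≤ b → b < 74 → ∃ J, chkPBlk P 5 31 40 14080 b J = true := fun b h1 h2 =>
  if h : b < 73 then lo_72_73 b h1 h else lo_73_74 b (Nat.le_of_not_lt h) h2
theorem lo_71_74 : ∀ b, 71 ≤ b → b < 74 → ∃ J, chkPBlk P 5 31 40 14080 b J = true := fun b h1 h2 =>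
  if h : b < 72 then lo_71_72 b h1 h else lo_72_74 b (Nat.le_of_not_lt h) h2
theorem lo_74_75 : ∀ b, 74 ≤ b → b < 75 → ∃ J, chkPBlk P 5 31 40 14080 b J = true := fun b h1 h2 => by
  have hb : b = 74 := Nat.le_antisymm (Nat.le_of_lt_succ h2) h1
  subst hb; exact ⟨_, lblk_74⟩
theorem lo_75_76 : ∀ b, 75 ≤ b → b < 76 → ∃ J, chkPBlk P 5 31 40 14080 b J = true := fun b h1 h2 => by
  have hb : b = 75 := Nat.le_antisymm (Nat.le_of_lt_succ h2) h1
  subst hb; exact ⟨_, lblk_75⟩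
theorem lo_76_77 : ∀ b, 76 ≤ b → b < 77 → ∃ J, chkPBlk P 5 31 40 14080 b J = true := fun b h1 h2 => by
  have hb : b = 76 := Nat.le_antisymm (Nat.le_of_lt_succ h2) h1
  subst hb; exact ⟨_, lblk_76⟩
theorem lo_75_77 : ∀ b, 75 ≤ b → b < 77 → ∃ J, chkPBlk P 5 31 40 14080 b J = true := fun b h1 h2 =>
  if h : b < 76 then lo_75_76 b h1 h else lo_76_77 b (Nat.le_of_not_lt h) h2
theorem lo_74_77 : ∀ b, 74 ≤ b → b < 77 → ∃ J, chkPBlk P 5 31 40 14080 b J = true := fun b h1 h2 =>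
  if h : b < 75 then lo_74_75 b h1 h else lo_75_77 b (Nat.le_of_not_lt h) h2
theorem lo_71_77 : ∀ b, 71 ≤ b → b < 77 → ∃ J, chkPBlk P 5 31 40 14080 b J = true := fun b h1 h2 =>
  if h : b < 74 then lo_71_74 b h1 h else lo_74_77 b (Nat.le_of_not_lt h) h2
theorem lo_66_77 : ∀ b, 66 ≤ b → b < 77 → ∃ J, chkPBlk P 5 31 40 14080 b J = true := fun b h1 h2 =>
  if h : b < 71 then lo_66_71 b h1 h else lo_71_77 b (Nat.le_of_not_lt h) h2
theorem lo_77_78 : ∀ b, 77 ≤ b → b < 78 → ∃ J, chkPBlk P 5 31 40 14080 b J = true := fun b h1 h2 => by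
  have hb : b = 77 := Nat.le_antisymm (Nat.le_of_lt_succ h2) h1
  subst hb; exact ⟨_, lblk_77⟩
theorem lo_78_79 : ∀ b, 78 ≤ b → b < 79 → ∃ J, chkPBlk P 5 31 40 14080 b J = true := fun b h1 h2 => by
  have hb : b = 78 := Nat.le_antisymm (Nat.le_of_lt_succ h2) h1
  subst hb; exact ⟨_, lblk_78⟩
theorem lo_77_79 : ∀ b, 77 ≤ b → b < 79 → ∃ J, chkPBlk P 5 31 40 14080 b J = true := fun b h1 h2 =>
  if h : b < 78 then lo_77_78 b h1 h else lo_78_79 b (Nat.le_of_not_lt h) h2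
theorem lo_79_80 : ∀ b, 79 ≤ b → b < 80 → ∃ J, chkPBlk P 5 31 40 14080 b J = true := fun b h1 h2 => by
  have hb : b = 79 := Nat.le_antisymm (Nat.le_of_lt_succ h2) h1
  subst hb; exact ⟨_, lblk_79⟩
theorem lo_80_81 : ∀ b, 80 ≤ b → b < 81 → ∃ J, chkPBlk P 5 31 40 14080 b J = true := fun b h1 h2 => by
  have hb : b = 80 := Nat.le_antisymm (Nat.le_of_lt_succ h2) h1
  subst hb; exact ⟨_, lblk_80⟩
theorem lo_81_82 : ∀ b, 81 ≤ b → b < 82 → ∃ J, chkPBlk P 5 31 40 14080 b J = true := fun b h1 h2 => by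
  have hb : b = 81 := Nat.le_antisymm (Nat.le_of_lt_succ h2) h1
  subst hb; exact ⟨_, lblk_81⟩
theorem lo_80_82 : ∀ b, 80 ≤ b → b < 82 → ∃ J, chkPBlk P 5 31 40 14080 b J = true := fun b h1 h2 =>
  if h : b < 81 then lo_80_81 b h1 h else lo_81_82 b (Nat.le_of_not_lt h) h2
theorem lo_79_82 : ∀ b, 79 ≤ b → b < 82 → ∃ J, chkPBlk P 5 31 40 14080 b J = true := fun b h1 h2 =>
  if h : b < 80 then lo_79_80 b h1 h else lo_80_82 b (Nat.le_of_not_lt h) h2
theorem lo_77_82 : ∀ b, 77 ≤ b → b < 82 → ∃ J, chkPBlk P 5 31 40 14080 b J = true := fun b h1 h2 =>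
  if h : b < 79 then lo_77_79 b h1 h else lo_79_82 b (Nat.le_of_not_lt h) h2
theorem lo_82_83 : ∀ b, 82 ≤ b → b < 83 → ∃ J, chkPBlk P 5 31 40 14080 b J = true := fun b h1 h2 => by
  have hb : b = 82 := Nat.le_antisymm (Nat.le_of_lt_succ h2) h1
  subst hb; exact ⟨_, lblk_82⟩
theorem lo_83_84 : ∀ b, 83 ≤ b → b < 84 → ∃ J, chkPBlk P 5 31 40 14080 b J = true := fun b h1 h2 => by
  have hb : b = 83 := Nat.le_antisymm (Nat.le_of_lt_succ h2) h1
  subst hb; exact ⟨_, lblk_83⟩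
theorem lo_84_85 : ∀ b, 84 ≤ b → b < 85 → ∃ J, chkPBlk P 5 31 40 14080 b J = true := fun b h1 h2 => by
  have hb : b = 84 := Nat.le_antisymm (Nat.le_of_lt_succ h2) h1
  subst hb; exact ⟨_, lblk_84⟩
theorem lo_83_85 : ∀ b, 83 ≤ b → b < 85 → ∃ J, chkPBlk P 5 31 40 14080 b J = true := fun b h1 h2 =>
  if h : b < 84 then lo_83_84 b h1 h else lo_84_85 b (Nat.le_of_not_lt h) h2
theorem lo_82_85 : ∀ b, 82 ≤ b → b < 85 → ∃ J, chkPBlk P 5 31 40 14080 b J = true := fun b h1 h2 =>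
  if h : b < 83 then lo_82_83 b h1 h else lo_83_85 b (Nat.le_of_not_lt h) h2
theorem lo_85_86 : ∀ b, 85 ≤ b → b < 86 → ∃ J, chkPBlk P 5 31 40 14080 b J = true := fun b h1 h2 => by
  have hb : b = 85 := Nat.le_antisymm (Nat.le_of_lt_succ h2) h1
  subst hb; exact ⟨_, lblk_85⟩
theorem lo_86_87 : ∀ b, 86 ≤ b → b < 87 → ∃ J, chkPBlk P 5 31 40 14080 b J = true := fun b h1 h2 => by
  have hb : b = 86 := Nat.le_antisymm (Nat.le_of_lt_succ h2) h1
  subst hb; exact ⟨_, lblk_86⟩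
theorem lo_87_88 : ∀ b, 87 ≤ b → b < 88 → ∃ J, chkPBlk P 5 31 40 14080 b J = true := fun b h1 h2 => by
  have hb : b = 87 := Nat.le_antisymm (Nat.le_of_lt_succ h2) h1
  subst hb; exact ⟨_, lblk_87⟩
theorem lo_86_88 : ∀ b, 86 ≤ b → b < 88 → ∃ J, chkPBlk P 5 31 40 14080 b J = true := fun b h1 h2 =>
  if h : b < 87 then lo_86_87 b h1 h else lo_87_88 b (Nat.le_of_not_lt h) h2
theorem lo_85_88 : ∀ b, 85 ≤ b → b < 88 → ∃ J, chkPBlk P 5 31 40 14080 b J = true := fun b h1 h2 =>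
  if h : b < 86 then lo_85_86 b h1 h else lo_86_88 b (Nat.le_of_not_lt h) h2
theorem lo_82_88 : ∀ b, 82 ≤ b → b < 88 → ∃ J, chkPBlk P 5 31 40 14080 b J = true := fun b h1 h2 =>
  if h : b < 85 then lo_82_85 b h1 h else lo_85_88 b (Nat.le_of_not_lt h) h2
theorem lo_77_88 : ∀ b, 77 ≤ b → b < 88 → ∃ J, chkPBlk P 5 31 40 14080 b J = true := fun b h1 h2 =>
  if h : b < 82 then lo_77_82 b h1 h else lo_82_88 b (Nat.le_of_not_lt h) h2
theorem lo_66_88 : ∀ b, 66 ≤ b → b < 88 → ∃ J, chkPBlk P 5 31 40 14080 b J = true := fun b h1 h2 =>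
  if h : b < 77 then lo_66_77 b h1 h else lo_77_88 b (Nat.le_of_not_lt h) h2
theorem lo_44_88 : ∀ b, 44 ≤ b → b < 88 → ∃ J, chkPBlk P 5 31 40 14080 b J = true := fun b h1 h2 =>
  if h : b < 66 then lo_44_66 b h1 h else lo_66_88 b (Nat.le_of_not_lt h) h2
theorem lo_0_88 : ∀ b, 0 ≤ b → b < 88 → ∃ J, chkPBlk P 5 31 40 14080 b J = true := fun b h1 h2 =>
  if h : b < 44 then lo_0_44 b h1 h else lo_44_88 b (Nat.le_of_not_lt h) h2

end Cfsg.Agent.Lib.Helper29.S1685
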