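import Cfsg.Agent.Lib.Helper29.S1685.Data

set_option autoImplicit false
set_option Elab.async false

namespace Cfsg.Agent.Lib.Helper29.S1685

open Cfsg.Agent.Lib.Helper29.TcTrace Cfsg.Agent.Lib.Helper29.TcCert Cfsg.Agent.Lib.Helper29.TcPerm

theorem lblk_88 : chkPBlk P 5 31 40 14080 88 0x40d043a1040a08240ce319d073a06741d051a087415040a082 = true := by decide +kernel
theorem lblk_89 : chkPBlk P 5 31 40 14080 89 0x120670850240ce40904819c274150411d07405041206319ce7 = true := by decide +kernel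
theorem lblk_90 : chkPBlk P 5 31 40 14080 90 0x40ce328d04415040a08240ce1415051a0e828d043a0a820504 = true := by decide +kernel
theorem lblk_91 : chkPBlk P 5 31 40 14080 91 0x2a0814104819ce5410e82a08141048195051a087415040a082 = true := by decide +kernel
theorem lblk_92 : chkPBlk P 5 31 40 14080 92 0x1a087420814104818ce83886719d08394e828ce83a0a3410e8 = true := by decide +kernel
theorem lblk_93 : chkPBlk P 5 31 40 14080 93 0x4104819ce831d05410673a0e82a0814104218c6741ce819ce8 = true := by decide +kernel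
theorem lblk_94 : chkPBlk P 5 31 40 14080 94 0x10d0829d051a0c74146821d0541028209033a0282090319081 = true := by decide +kernel
theorem lblk_95 : chkPBlk P 5 31 40 14080 95 0x3a0a3410e82a08141048188a51a0a3410e82a0814104819d05 = true := by decide +kernel
theorem lblk_96 : chkPBlk P 5 31 40 14080 96 0x1a087415040a08240c672a0e828d043a0a820504120e541467 = true := by decide +kernel
theorem lblk_97 : chkPBlk P 5 31 40 14080 97 0x415040a082120e33a0e419d083944338ce841ca74146741d05 = true := by decide +kernel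
theorem lblk_98 : chkPBlk P 5 31 40 14080 98 0x3a0c7415043a0a82044220ce819d0710c6741ce819ce81a087 = true := by decide +kernel
theorem lblk_99 : chkPBlk P 5 31 40 14080 99 0x120683a0a82050411c63221040a08240c6741d063a0a320c67 = true := by decide +kernel
theorem lblk_100 : chkPBlk P 5 31 40 14080 100 0x20903415041a10510d0641ca741467418e828d043a0a820504 = true := by decide +kernel
theorem lblk_101 : chkPBlk P 5 31 40 14080 101 0x3a0e828d043a0a820504110a241ca828ce74146821d0541028 = true := by decide +kernel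
theorem lblk_102 : chkPBlk P 5 31 40 14080 102 0x18d0829d0519d063a0a3410e82a0813a0e8394433a0e53a0a3 = true := by decide +kernel
theorem lblk_103 : chkPBlk P 5 31 40 14080 103 0x41c833a1072886719d08394e828ce83a0a3410e82a08141044 = true := by decide +kernel
theorem lblk_104 : chkPBlk P 5 31 40 14080 104 0x3a0e740ce831d051a0874150408c88388e8391072886419ce8 = true := by decide +kernel
theorem lblk_105 : chkPBlk P 5 31 40 14080 105 0x19d063a0a7418e828d0409043390433a1071106740ce838863 = true := by decide +kernel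
theorem lblk_106 : chkPBlk P 5 31 40 14080 106 0xa0e238d03410e82a0814104219c6740ce8320e52904418ce8 = true := by decide +kernel
theorem lblk_107 : chkPBlk P 5 31 40 14080 107 0x4190729d0519d063a0a3410e82a08141047418e82a08741504 = true := by decide +kernel
theorem lblk_108 : chkPBlk P 5 31 40 14080 108 0x3a0e828d043a0a82050412048220a43a10731068320e511c67 = true := by decide +kernel
theorem lblk_109 : chkPBlk P 5 31 40 14080 109 0x394e828ce831d051a08741504090a741c88394433a0e53a0a3 = true := by decide +kernel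
theorem lblk_110 : chkPBlk P 5 31 40 14080 110 0x419053a0a33a0c74146821d0741d072906741c6741ca219d08 = true := by decide +kernel
theorem lblk_111 : chkPBlk P 5 31 40 14080 111 0x420e53a0a33a0c74146821d05410252088741068414433a067 = true := by decide +kernel
theorem lblk_112 : chkPBlk P 5 31 40 14080 112 0x18ce7420e410ce7420e441ca2190673a10720ce841ca219c67 = true := by decide +kernel
theorem lblk_113 : chkPBlk P 5 31 40 14080 113 0x19d0710ce819d0641ca741467418e828d041a0e341c8120882 = true := by decide +kernel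
theorem lblk_114 : chkPBlk P 5 31 40 14080 114 0x4190729d051902410c8410ce740c252086720867420e220ce8 = true := by decide +kernel
theorem lblk_115 : chkPBlk P 5 31 40 14080 115 0x84821886720ce83a107310c52148210ce419d033a0c33a067 = true := by decide +kernel
theorem lblk_116 : chkPBlk P 5 31 40 14080 116 0x3a0e831d053a0c741468220e83890740ce831d051a08741504 = true := by decide +kernel
theorem lblk_117 : chkPBlk P 5 31 40 14080 117 0x398833a0c83944740ce8320e53a0a33a0c74146821d0541023 = true := by decide +kernel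
theorem lblk_118 : chkPBlk P 5 31 40 14080 118 0x31d051a087415040a10439d0741cc411d08398883948339d08 = true := by decide +kernel
theorem lblk_119 : chkPBlk P 5 31 40 14080 119 0x41468210e839d07220e520ce83906741ca219d08394e828ce8 = true := by decide +kernel
theorem lblk_120 : chkPBlk P 5 31 40 14080 120 0x10ce83a0e520ce841c833a1072886740ce8320e53a0a33a0c7 = true := by decide +kernel
theorem lblk_121 : chkPBlk P 5 31 40 14080 121 0x19d07418833a0c82886740ce8320e53a0a33a0e819ca419d04 = true := by decide +kernel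
theorem lblk_122 : chkPBlk P 5 31 40 14080 122 0x19d033a0c8394e828ce831d051a086290a7410474110510ce4 = true := by decide +kernel
theorem lblk_123 : chkPBlk P 5 31 40 14080 123 0x1148218ce7420e410ce7420e441ca2190673a10720ce841ca2 = true := by decide +kernel
theorem lblk_124 : chkPBlk P 5 31 40 14080 124 0x320e53a0a3410240888218ce740c8410c673a1073a06839024 = true := by decide +kernel
theorem lblk_125 : chkPBlk P 5 31 40 14080 125 0x184a410ce410ce841c433906741d0839867419072886740ce8 = true := by decide +kernel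
theorem lblk_126 : chkPBlk P 5 31 40 14080 126 0x41d08398833a0c8394812088218ce8218a4090432908219ce8 = true := by decide +kernel
theorem lblk_127 : chkPBlk P 5 31 40 14080 127 0x414682104339ce8420c5198a40904329043390433a04339067 = true := by decide +kernel
theorem lblk_128 : chkPBlk P 5 31 40 14080 128 0x19d033a0c8394e828d0341ce841c433a0e8320e53a0a33a0c7 = true := by decide +kernel
theorem lblk_129 : chkPBlk P 5 31 40 14080 129 0x19d0641ca219d033a0c8394e828ce831d051a08219c6741d06 = true := by decide +kernel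
theorem lblk_130 : chkPBlk P 5 31 40 14080 130 0x40d07310a418ce741d073104339d0839888394833a0e841cc4 = true := by decide +kernel
theorem lblk_131 : chkPBlk P 5 31 40 14080 131 0x10ce819d0641ca741467418e828d0440ce83a0e439d0741cc7 = true := by decide +kernel
theorem lblk_132 : chkPBlk P 5 31 40 14080 132 0x28d0741ce819c8520ce8390433a0e441ca419d0839067420e5 = true := by decide +kernel
theorem lblk_133 : chkPBlk P 5 31 40 14080 133 0x420e441ca219c833a0e841cc419d0641ca219d033a0c8394e8 = true := by decide +kernel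
theorem lblk_134 : chkPBlk P 5 31 40 14080 134 0x3a0c8394433a088198a41948410ce83a067290673a10720867 = true := by decide +kernel
theorem lblk_135 : chkPBlk P 5 31 40 14080 135 0x204821948219c67420c410ce83a0c4414433906741d0839883 = true := by decide +kernel
theorem lblk_136 : chkPBlk P 5 31 40 14080 136 0x41d08398833a0c8394433a0674190729d05198a331ca43a0e8 = true := by decide +kernel
theorem lblk_137 : chkPBlk P 5 31 40 14080 137 0x420e740d07204822904319ce841c8219ce841c883944339067 = true := by decide +kernel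
theorem lblk_138 : chkPBlk P 5 31 40 14080 138 0x4088218ce740ce821d08204c5204822086339d032908218ce7 = true := by decide +kernel
theorem lblk_139 : chkPBlk P 5 31 40 14080 139 0x3a0e841cc8394433906741d08398833a0c8394440902410867 = true := by decide +kernel
theorem lblk_140 : chkPBlk P 5 31 40 14080 140 0x10c67410c5204821948410ce740c2410ca410ce339d0839043 = true := by decide +kernel
theorem lblk_141 : chkPBlk P 5 31 40 14080 141 0x4210410ce83a107310640904410ce8298a429024118a329024 = true := by decide +kernel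
theorem lblk_142 : chkPBlk P 5 31 40 14080 142 0x19d0641ca74146539cc7298a3208c5204821948410ce319ce7 = true := by decide +kernel
theorem lblk_143 : chkPBlk P 5 31 40 14080 143 0x398833a0c83950440ce7420e219c6741d08398e8320e510ce8 = true := by decide +kernel
theorem lblk_144 : chkPBlk P 5 31 40 14080 144 0x419072886740ce8320e53a0a30904310ce33a0433906741d08 = true := by decide +kernel
theorem lblk_145 : chkPBlk P 5 31 40 14080 145 0x20c673a10741cc410ce83a107311072886720ce83a10731067 = true := by decide +kernel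
theorem lblk_146 : chkPBlk P 5 31 40 14080 146 0x40ce8398662908319d0740ce52104319ce83a0e63a06839885 = true := by decide +kernel
theorem lblk_147 : chkPBlk P 5 31 40 14080 147 0x3a10731067419072886740ce8320e53a0a33a0e83a0e33a087 = true := by decide +kernel
theorem lblk_148 : chkPBlk P 5 31 40 14080 148 0x1948410ce839d03390a419ce841c8219d08391072886720ce8 = true := by decide +kernel
theorem lblk_149 : chkPBlk P 5 31 40 14080 149 0x41cc441ca219c833a0e841cc419d0641ca240ce82206629068 = true := by decide +kernel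
theorem lblk_150 : chkPBlk P 5 31 40 14080 150 0x2104339d0839d0341c81208652086719ce841d07310433a0e8 = true := by decide +kernel
theorem lblk_151 : chkPBlk P 5 31 40 14080 151 0x420e6220e520ce82a086290c51948410c67411033148339d05 = true := by decide +kernel
theorem lblk_152 : chkPBlk P 5 31 40 14080 152 0x20482188673a0a42086719d0831d0620c6719ce84208219d07 = true := by decide +kernel
theorem lblk_153 : chkPBlk P 5 31 40 14080 153 0x41ca219c833a0e841cc419d0641ca231ca33146719d03208c5 = true := by decide +kernel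
theorem lblk_154 : chkPBlk P 5 31 40 14080 154 0x39d0839d0341c81208652086719ce841d07310433a0e841cc4 = true := by decide +kernel
theorem lblk_155 : chkPBlk P 5 31 40 14080 155 0x204822086339d033a08742081314812088218ce740ca420863 = true := by decide +kernel
theorem lblk_156 : chkPBlk P 5 31 40 14080 156 0x2042220843390433a06738c86290a4094812088218ce831465 = true := by decide +kernel
theorem lblk_157 : chkPBlk P 5 31 40 14080 157 0x38ce7420e740d073046410ce339d08410433a0e841cc441ca3 = true := by decide +kernel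
theorem lblk_158 : chkPBlk P 5 31 40 14080 158 0x20482314652048218ce821024118a4090432086339d0521043 = true := by decide +kernel
theorem lblk_159 : chkPBlk P 5 31 40 14080 159 0x4206410ce8318a628c85204c7298a3214812088219d0531485 = true := by decide +kernel
theorem lblk_160 : chkPBlk P 5 31 40 14080 160 0x19d0641ca241cc431ca5314852104628ca42086339c8339ce8 = true := by decide +kernel
theorem lblk_161 : chkPBlk P 5 31 40 14080 161 0x3a0612086219c673a10719d07420e641ca219c833a0e841cc4 = true := by decide +kernel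
theorem lblk_162 : chkPBlk P 5 31 40 14080 162 0x90412086219c2410c8219c673a10820ce83a107310e82a087 = true := by decide +kernel
theorem lblk_163 : chkPBlk P 5 31 40 14080 163 0x3a0e62086741d0839888394433906741d08398833a0c839444 = true := by decide +kernel
theorem lblk_164 : chkPBlk P 5 31 40 14080 164 0x40d072948410c673a10741cc740d073102410ca410ce339d08 = true := by decide +kernel
theorem lblk_165 : chkPBlk P 5 31 40 14080 165 0x198a329082208633a0e819c67410e819d0730cc52106339d07 = true := by decide +kernel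
theorem lblk_166 : chkPBlk P 5 31 40 14080 166 0x3a1073106741907288e820ce828ce82206819cc52908319d08 = true := by decide +kernel
theorem lblk_167 : chkPBlk P 5 31 40 14080 167 0x204821948219c673a10741cc410ce83a107311072886720ce8 = true := by decide +kernel
theorem lblk_168 : chkPBlk P 5 31 40 14080 168 0x220c51948410d033a088198a419ce81948410ce7420e740d07 = true := by decide +kernel
theorem lblk_169 : chkPBlk P 5 31 40 14080 169 0x3a068398811904338ce74210410ce83a1073110729067420c5 = true := by decide +kernel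
theorem lblk_170 : chkPBlk P 5 31 40 14080 170 0x41c64090462902410c8218ce741d083948410ce339d083a0e6 = true := by decide +kernel
theorem lblk_171 : chkPBlk P 5 31 40 14080 171 0x394c519484110433a0a8218a419cc51948410ce740ce821d03 = true := by decide +kernel
theorem lblk_172 : chkPBlk P 5 31 40 14080 172 0x39d033a10618c6739c8338ce742107420e621067418e8298a6 = true := by decide +kernel
theorem lblk_173 : chkPBlk P 5 31 40 14080 173 0x39507310463946419d07298a4290820904319cc51948410c43 = true := by decide +kernel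
theorem lblk_174 : chkPBlk P 5 31 40 14080 174 0x3a10741cc740d073102410c8219c673a1082086741d0839888 = true := by decide +kernel
theorem lblk_175 : chkPBlk P 5 31 40 14080 175 0x3a067410e841024118a4090432086339d0740d072908219c67 = true := by decide +kernel
theorem lo_88_89 : ∀ b, 88 ≤ b → b < 89 → ∃ J, chkPBlk P 5 31 40 14080 b J = true := fun b h1 h2 => by
  have hb : b = 88 := Nat.le_antisymm (Nat.le_of_lt_succ h2) h1
  subst hb; exact ⟨_, lblk_88⟩
theorem lo_89_90 : ∀ b, 89 ≤ b → b < 90 → ∃ J, chkPBlk P 5 31 40 14080 b J = true := fun b h1 h2 => by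
  have hb : b = 89 := Nat.le_antisymm (Nat.le_of_lt_succ h2) h1
  subst hb; exact ⟨_, lblk_89⟩
theorem lo_88_90 : ∀ b, 88 ≤ b → b < 90 → ∃ J, chkPBlk P 5 31 40 14080 b J = true := fun b h1 h2 =>
  if h : b < 89 then lo_88_89 b h1 h else lo_89_90 b (Nat.le_of_not_lt h) h2
theorem lo_90_91 : ∀ b, 90 ≤ b → b < 91 → ∃ J, chkPBlk P 5 31 40 14080 b J = true := fun b h1 h2 => by
  have hb : b = 90 := Nat.le_antisymm (Nat.le_of_lt_succ h2) h1
  subst hb; exact ⟨_, lblk_90⟩
theorem lo_91_92 : ∀ b, 91 ≤ b → b < 92 → ∃ J, chkPBlk P 5 31 40 14080 b J = true := fun b h1 h2 => by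
  have hb : b = 91 := Nat.le_antisymm (Nat.le_of_lt_succ h2) h1
  subst hb; exact ⟨_, lblk_91⟩
theorem lo_92_93 : ∀ b, 92 ≤ b → b < 93 → ∃ J, chkPBlk P 5 31 40 14080 b J = true := fun b h1 h2 => by
  have hb : b = 92 := Nat.le_antisymm (Nat.le_of_lt_succ h2) h1
  subst hb; exact ⟨_, lblk_92⟩
theorem lo_91_93 : ∀ b, 91 ≤ b → b < 93 → ∃ J, chkPBlk P 5 31 40 14080 b J = true := fun b h1 h2 =>
  if h : b < 92 then lo_91_92 b h1 h else lo_92_93 b (Nat.le_of_not_lt h) h2
theorem lo_90_93 : ∀ b, 90 ≤ b → b < 93 → ∃ J, chkPBlk P 5 31 40 14080 b J = true := fun b h1 h2 =>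
  if h : b < 91 then lo_90_91 b h1 h else lo_91_93 b (Nat.le_of_not_lt h) h2
theorem lo_88_93 : ∀ b, 88 ≤ b → b < 93 → ∃ J, chkPBlk P 5 31 40 14080 b J = true := fun b h1 h2 =>
  if h : b < 90 then lo_88_90 b h1 h else lo_90_93 b (Nat.le_of_not_lt h) h2
theorem lo_93_94 : ∀ b, 93 ≤ b → b < 94 → ∃ J, chkPBlk P 5 31 40 14080 b J = true := fun b h1 h2 => by
  have hb : b = 93 := Nat.le_antisymm (Nat.le_of_lt_succ h2) h1
  subst hb; exact ⟨_, lblk_93⟩
theorem lo_94_95 : ∀ b, 94 ≤ b → b < 95 → ∃ J, chkPBlk P 5 31 40 14080 b J = true := fun b h1 h2 => by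
  have hb : b = 94 := Nat.le_antisymm (Nat.le_of_lt_succ h2) h1
  subst hb; exact ⟨_, lblk_94⟩
theorem lo_95_96 : ∀ b, 95 ≤ b → b < 96 → ∃ J, chkPBlk P 5 31 40 14080 b J = true := fun b h1 h2 => by
  have hb : b = 95 := Nat.le_antisymm (Nat.le_of_lt_succ h2) h1
  subst hb; exact ⟨_, lblk_95⟩
theorem lo_94_96 : ∀ b, 94 ≤ b → b < 96 → ∃ J, chkPBlk P 5 31 40 14080 b J = true := fun b h1 h2 =>
  if h : b < 95 then lo_94_95 b h1 h else lo_95_96 b (Nat.le_of_not_lt h) h2
theorem lo_93_96 : ∀ b, 93 ≤ b → b < 96 → ∃ J, chkPBlk P 5 31 40 14080 b J = true := fun b h1 h2 =>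
  if h : b < 94 then lo_93_94 b h1 h else lo_94_96 b (Nat.le_of_not_lt h) h2
theorem lo_96_97 : ∀ b, 96 ≤ b → b < 97 → ∃ J, chkPBlk P 5 31 40 14080 b J = true := fun b h1 h2 => by
  have hb : b = 96 := Nat.le_antisymm (Nat.le_of_lt_succ h2) h1
  subst hb; exact ⟨_, lblk_96⟩
theorem lo_97_98 : ∀ b, 97 ≤ b → b < 98 → ∃ J, chkPBlk P 5 31 40 14080 b J = true := fun b h1 h2 => by
  have hb : b = 97 := Nat.le_antisymm (Nat.le_of_lt_succ h2) h1
  subst hb; exact ⟨_, lblk_97⟩
theorem lo_98_99 : ∀ b, 98 ≤ b → b < 99 → ∃ J, chkPBlk P 5 31 40 14080 b J = true := fun b h1 h2 => by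
  have hb : b = 98 := Nat.le_antisymm (Nat.le_of_lt_succ h2) h1
  subst hb; exact ⟨_, lblk_98⟩
theorem lo_97_99 : ∀ b, 97 ≤ b → b < 99 → ∃ J, chkPBlk P 5 31 40 14080 b J = true := fun b h1 h2 =>
  if h : b < 98 then lo_97_98 b h1 h else lo_98_99 b (Nat.le_of_not_lt h) h2
theorem lo_96_99 : ∀ b, 96 ≤ b → b < 99 → ∃ J, chkPBlk P 5 31 40 14080 b J = true := fun b h1 h2 =>
  if h : b < 97 then lo_96_97 b h1 h else lo_97_99 b (Nat.le_of_not_lt h) h2
theorem lo_93_99 : ∀ b, 93 ≤ b → b < 99 → ∃ J, chkPBlk P 5 31 40 14080 b J = true := fun b h1 h2 =>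
  if h : b < 96 then lo_93_96 b h1 h else lo_96_99 b (Nat.le_of_not_lt h) h2
theorem lo_88_99 : ∀ b, 88 ≤ b → b < 99 → ∃ J, chkPBlk P 5 31 40 14080 b J = true := fun b h1 h2 =>
  if h : b < 93 then lo_88_93 b h1 h else lo_93_99 b (Nat.le_of_not_lt h) h2
theorem lo_99_100 : ∀ b, 99 ≤ b → b < 100 → ∃ J, chkPBlk P 5 31 40 14080 b J = true := fun b h1 h2 => by
  have hb : b = 99 := Nat.le_antisymm (Nat.le_of_lt_succ h2) h1
  subst hb; exact ⟨_, lblk_99⟩
theorem lo_100_101 : ∀ b, 100 ≤ b → b < 101 → ∃ J, chkPBlk P 5 31 40 14080 b J = true := fun b h1 h2 => by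
  have hb : b = 100 := Nat.le_antisymm (Nat.le_of_lt_succ h2) h1
  subst hb; exact ⟨_, lblk_100⟩
theorem lo_99_101 : ∀ b, 99 ≤ b → b < 101 → ∃ J, chkPBlk P 5 31 40 14080 b J = true := fun b h1 h2 =>
  if h : b < 100 then lo_99_100 b h1 h else lo_100_101 b (Nat.le_of_not_lt h) h2
theorem lo_101_102 : ∀ b, 101 ≤ b → b < 102 → ∃ J, chkPBlk P 5 31 40 14080 b J = true := fun b h1 h2 => by
  have hb : b = 101 := Nat.le_antisymm (Nat.le_of_lt_succ h2) h1
  subst hb; exact ⟨_, lblk_101⟩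
theorem lo_102_103 : ∀ b, 102 ≤ b → b < 103 → ∃ J, chkPBlk P 5 31 40 14080 b J = true := fun b h1 h2 => by
  have hb : b = 102 := Nat.le_antisymm (Nat.le_of_lt_succ h2) h1
  subst hb; exact ⟨_, lblk_102⟩
theorem lo_103_104 : ∀ b, 103 ≤ b → b < 104 → ∃ J, chkPBlk P 5 31 40 14080 b J = true := fun b h1 h2 => by
  have hb : b = 103 := Nat.le_antisymm (Nat.le_of_lt_succ h2) h1
  subst hb; exact ⟨_, lblk_103⟩
theorem lo_102_104 : ∀ b, 102 ≤ b → b < 104 → ∃ J, chkPBlk P 5 31 40 14080 b J = true := fun b h1 h2 =>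
  if h : b < 103 then lo_102_103 b h1 h else lo_103_104 b (Nat.le_of_not_lt h) h2
theorem lo_101_104 : ∀ b, 101 ≤ b → b < 104 → ∃ J, chkPBlk P 5 31 40 14080 b J = true := fun b h1 h2 =>
  if h : b < 102 then lo_101_102 b h1 h else lo_102_104 b (Nat.le_of_not_lt h) h2
theorem lo_99_104 : ∀ b, 99 ≤ b → b < 104 → ∃ J, chkPBlk P 5 31 40 14080 b J = true := fun b h1 h2 =>
  if h : b < 101 then lo_99_101 b h1 h else lo_101_104 b (Nat.le_of_not_lt h) h2
theorem lo_104_105 : ∀ b, 104 ≤ b → b < 105 → ∃ J, chkPBlk P 5 31 40 14080 b J = true := fun b h1 h2 => by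
  have hb : b = 104 := Nat.le_antisymm (Nat.le_of_lt_succ h2) h1
  subst hb; exact ⟨_, lblk_104⟩
theorem lo_105_106 : ∀ b, 105 ≤ b → b < 106 → ∃ J, chkPBlk P 5 31 40 14080 b J = true := fun b h1 h2 => by
  have hb : b = 105 := Nat.le_antisymm (Nat.le_of_lt_succ h2) h1
  subst hb; exact ⟨_, lblk_105⟩
theorem lo_106_107 : ∀ b, 106 ≤ b → b < 107 → ∃ J, chkPBlk P 5 31 40 14080 b J = true := fun b h1 h2 => by
  have hb : b = 106 := Nat.le_antisymm (Nat.le_of_lt_succ h2) h1
  subst hb; exact ⟨_, lblk_106⟩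
theorem lo_105_107 : ∀ b, 105 ≤ b → b < 107 → ∃ J, chkPBlk P 5 31 40 14080 b J = true := fun b h1 h2 =>
  if h : b < 106 then lo_105_106 b h1 h else lo_106_107 b (Nat.le_of_not_lt h) h2
theorem lo_104_107 : ∀ b, 104 ≤ b → b < 107 → ∃ J, chkPBlk P 5 31 40 14080 b J = true := fun b h1 h2 =>
  if h : b < 105 then lo_104_105 b h1 h else lo_105_107 b (Nat.le_of_not_lt h) h2
theorem lo_107_108 : ∀ b, 107 ≤ b → b < 108 → ∃ J, chkPBlk P 5 31 40 14080 b J = true := fun b h1 h2 => by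
  have hb : b = 107 := Nat.le_antisymm (Nat.le_of_lt_succ h2) h1
  subst hb; exact ⟨_, lblk_107⟩
theorem lo_108_109 : ∀ b, 108 ≤ b → b < 109 → ∃ J, chkPBlk P 5 31 40 14080 b J = true := fun b h1 h2 => by
  have hb : b = 108 := Nat.le_antisymm (Nat.le_of_lt_succ h2) h1
  subst hb; exact ⟨_, lblk_108⟩
theorem lo_109_110 : ∀ b, 109 ≤ b → b < 110 → ∃ J, chkPBlk P 5 31 40 14080 b J = true := fun b h1 h2 => by
  have hb : b = 109 := Nat.le_antisymm (Nat.le_of_lt_succ h2) h1
  subst hb; exact ⟨_, lblk_109⟩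
theorem lo_108_110 : ∀ b, 108 ≤ b → b < 110 → ∃ J, chkPBlk P 5 31 40 14080 b J = true := fun b h1 h2 =>
  if h : b < 109 then lo_108_109 b h1 h else lo_109_110 b (Nat.le_of_not_lt h) h2
theorem lo_107_110 : ∀ b, 107 ≤ b → b < 110 → ∃ J, chkPBlk P 5 31 40 14080 b J = true := fun b h1 h2 =>
  if h : b < 108 then lo_107_108 b h1 h else lo_108_110 b (Nat.le_of_not_lt h) h2
theorem lo_104_110 : ∀ b, 104 ≤ b → b < 110 → ∃ J, chkPBlk P 5 31 40 14080 b J = true := fun b h1 h2 =>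
  if h : b < 107 then lo_104_107 b h1 h else lo_107_110 b (Nat.le_of_not_lt h) h2
theorem lo_99_110 : ∀ b, 99 ≤ b → b < 110 → ∃ J, chkPBlk P 5 31 40 14080 b J = true := fun b h1 h2 =>
  if h : b < 104 then lo_99_104 b h1 h else lo_104_110 b (Nat.le_of_not_lt h) h2
theorem lo_88_110 : ∀ b, 88 ≤ b → b < 110 → ∃ J, chkPBlk P 5 31 40 14080 b J = true := fun b h1 h2 =>
  if h : b < 99 then lo_88_99 b h1 h else lo_99_110 b (Nat.le_of_not_lt h) h2
theorem lo_110_111 : ∀ b, 110 ≤ b → b < 111 → ∃ J, chkPBlk P 5 31 40 14080 b J = true := fun b h1 h2 => by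
  have hb : b = 110 := Nat.le_antisymm (Nat.le_of_lt_succ h2) h1
  subst hb; exact ⟨_, lblk_110⟩
theorem lo_111_112 : ∀ b, 111 ≤ b → b < 112 → ∃ J, chkPBlk P 5 31 40 14080 b J = true := fun b h1 h2 => by
  have hb : b = 111 := Nat.le_antisymm (Nat.le_of_lt_succ h2) h1
  subst hb; exact ⟨_, lblk_111⟩
theorem lo_110_112 : ∀ b, 110 ≤ b → b < 112 → ∃ J, chkPBlk P 5 31 40 14080 b J = true := fun b h1 h2 =>
  if h : b < 111 then lo_110_111 b h1 h else lo_111_112 b (Nat.le_of_not_lt h) h2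
theorem lo_112_113 : ∀ b, 112 ≤ b → b < 113 → ∃ J, chkPBlk P 5 31 40 14080 b J = true := fun b h1 h2 => by
  have hb : b = 112 := Nat.le_antisymm (Nat.le_of_lt_succ h2) h1
  subst hb; exact ⟨_, lblk_112⟩
theorem lo_113_114 : ∀ b, 113 ≤ b → b < 114 → ∃ J, chkPBlk P 5 31 40 14080 b J = true := fun b h1 h2 => by
  have hb : b = 113 := Nat.le_antisymm (Nat.le_of_lt_succ h2) h1
  subst hb; exact ⟨_, lblk_113⟩
theorem lo_114_115 : ∀ b, 114 ≤ b → b < 115 → ∃ J, chkPBlk P 5 31 40 14080 b J = true := fun b h1 h2 => by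
  have hb : b = 114 := Nat.le_antisymm (Nat.le_of_lt_succ h2) h1
  subst hb; exact ⟨_, lblk_114⟩
theorem lo_113_115 : ∀ b, 113 ≤ b → b < 115 → ∃ J, chkPBlk P 5 31 40 14080 b J = true := fun b h1 h2 =>
  if h : b < 114 then lo_113_114 b h1 h else lo_114_115 b (Nat.le_of_not_lt h) h2
theorem lo_112_115 : ∀ b, 112 ≤ b → b < 115 → ∃ J, chkPBlk P 5 31 40 14080 b J = true := fun b h1 h2 =>
  if h : b < 113 then lo_112_113 b h1 h else lo_113_115 b (Nat.le_of_not_lt h) h2
theorem lo_110_115 : ∀ b, 110 ≤ b → b < 115 → ∃ J, chkPBlk P 5 31 40 14080 b J = true := fun b h1 h2 =>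
  if h : b < 112 then lo_110_112 b h1 h else lo_112_115 b (Nat.le_of_not_lt h) h2
theorem lo_115_116 : ∀ b, 115 ≤ b → b < 116 → ∃ J, chkPBlk P 5 31 40 14080 b J = true := fun b h1 h2 => by
  have hb : b = 115 := Nat.le_antisymm (Nat.le_of_lt_succ h2) h1
  subst hb; exact ⟨_, lblk_115⟩
theorem lo_116_117 : ∀ b, 116 ≤ b → b < 117 → ∃ J, chkPBlk P 5 31 40 14080 b J = true := fun b h1 h2 => by
  have hb : b = 116 := Nat.le_antisymm (Nat.le_of_lt_succ h2) h1
  subst hb; exact ⟨_, lblk_116⟩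
theorem lo_117_118 : ∀ b, 117 ≤ b → b < 118 → ∃ J, chkPBlk P 5 31 40 14080 b J = true := fun b h1 h2 => by
  have hb : b = 117 := Nat.le_antisymm (Nat.le_of_lt_succ h2) h1
  subst hb; exact ⟨_, lblk_117⟩
theorem lo_116_118 : ∀ b, 116 ≤ b → b < 118 → ∃ J, chkPBlk P 5 31 40 14080 b J = true := fun b h1 h2 =>
  if h : b < 117 then lo_116_117 b h1 h else lo_117_118 b (Nat.le_of_not_lt h) h2
theorem lo_115_118 : ∀ b, 115 ≤ b → b < 118 → ∃ J, chkPBlk P 5 31 40 14080 b J = true := fun b h1 h2 =>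
  if h : b < 116 then lo_115_116 b h1 h else lo_116_118 b (Nat.le_of_not_lt h) h2
theorem lo_118_119 : ∀ b, 118 ≤ b → b < 119 → ∃ J, chkPBlk P 5 31 40 14080 b J = true := fun b h1 h2 => by
  have hb : b = 118 := Nat.le_antisymm (Nat.le_of_lt_succ h2) h1
  subst hb; exact ⟨_, lblk_118⟩
theorem lo_119_120 : ∀ b, 119 ≤ b → b < 120 → ∃ J, chkPBlk P 5 31 40 14080 b J = true := fun b h1 h2 => by
  have hb : b = 119 := Nat.le_antisymm (Nat.le_of_lt_succ h2) h1
  subst hb; exact ⟨_, lblk_119⟩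
theorem lo_120_121 : ∀ b, 120 ≤ b → b < 121 → ∃ J, chkPBlk P 5 31 40 14080 b J = true := fun b h1 h2 => by
  have hb : b = 120 := Nat.le_antisymm (Nat.le_of_lt_succ h2) h1
  subst hb; exact ⟨_, lblk_120⟩
theorem lo_119_121 : ∀ b, 119 ≤ b → b < 121 → ∃ J, chkPBlk P 5 31 40 14080 b J = true := fun b h1 h2 =>
  if h : b < 120 then lo_119_120 b h1 h else lo_120_121 b (Nat.le_of_not_lt h) h2
theorem lo_118_121 : ∀ b, 118 ≤ b → b < 121 → ∃ J, chkPBlk P 5 31 40 14080 b J = true := fun b h1 h2 =>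
  if h : b < 119 then lo_118_119 b h1 h else lo_119_121 b (Nat.le_of_not_lt h) h2
theorem lo_115_121 : ∀ b, 115 ≤ b → b < 121 → ∃ J, chkPBlk P 5 31 40 14080 b J = true := fun b h1 h2 =>
  if h : b < 118 then lo_115_118 b h1 h else lo_118_121 b (Nat.le_of_not_lt h) h2
theorem lo_110_121 : ∀ b, 110 ≤ b → b < 121 → ∃ J, chkPBlk P 5 31 40 14080 b J = true := fun b h1 h2 =>
  if h : b < 115 then lo_110_115 b h1 h else lo_115_121 b (Nat.le_of_not_lt h) h2
theorem lo_121_122 : ∀ b, 121 ≤ b → b < 122 → ∃ J, chkPBlk P 5 31 40 14080 b J = true := fun b h1 h2 => by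
  have hb : b = 121 := Nat.le_antisymm (Nat.le_of_lt_succ h2) h1
  subst hb; exact ⟨_, lblk_121⟩
theorem lo_122_123 : ∀ b, 122 ≤ b → b < 123 → ∃ J, chkPBlk P 5 31 40 14080 b J = true := fun b h1 h2 => by
  have hb : b = 122 := Nat.le_antisymm (Nat.le_of_lt_succ h2) h1
  subst hb; exact ⟨_, lblk_122⟩
theorem lo_121_123 : ∀ b, 121 ≤ b → b < 123 → ∃ J, chkPBlk P 5 31 40 14080 b J = true := fun b h1 h2 =>
  if h : b < 122 then lo_121_122 b h1 h else lo_122_123 b (Nat.le_of_not_lt h) h2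
theorem lo_123_124 : ∀ b, 123 ≤ b → b < 124 → ∃ J, chkPBlk P 5 31 40 14080 b J = true := fun b h1 h2 => by
  have hb : b = 123 := Nat.le_antisymm (Nat.le_of_lt_succ h2) h1
  subst hb; exact ⟨_, lblk_123⟩
theorem lo_124_125 : ∀ b, 124 ≤ b → b < 125 → ∃ J, chkPBlk P 5 31 40 14080 b J = true := fun b h1 h2 => by
  have hb : b = 124 := Nat.le_antisymm (Nat.le_of_lt_succ h2) h1
  subst hb; exact ⟨_, lblk_124⟩
theorem lo_125_126 : ∀ b, 125 ≤ b → b < 126 → ∃ J, chkPBlk P 5 31 40 14080 b J = true := fun b h1 h2 => by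
  have hb : b = 125 := Nat.le_antisymm (Nat.le_of_lt_succ h2) h1
  subst hb; exact ⟨_, lblk_125⟩
theorem lo_124_126 : ∀ b, 124 ≤ b → b < 126 → ∃ J, chkPBlk P 5 31 40 14080 b J = true := fun b h1 h2 =>
  if h : b < 125 then lo_124_125 b h1 h else lo_125_126 b (Nat.le_of_not_lt h) h2
theorem lo_123_126 : ∀ b, 123 ≤ b → b < 126 → ∃ J, chkPBlk P 5 31 40 14080 b J = true := fun b h1 h2 =>
  if h : b < 124 then lo_123_124 b h1 h else lo_124_126 b (Nat.le_of_not_lt h) h2
theorem lo_121_126 : ∀ b, 121 ≤ b → b < 126 → ∃ J, chkPBlk P 5 31 40 14080 b J = true := fun b h1 h2 =>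
  if h : b < 123 then lo_121_123 b h1 h else lo_123_126 b (Nat.le_of_not_lt h) h2
theorem lo_126_127 : ∀ b, 126 ≤ b → b < 127 → ∃ J, chkPBlk P 5 31 40 14080 b J = true := fun b h1 h2 => by
  have hb : b = 126 := Nat.le_antisymm (Nat.le_of_lt_succ h2) h1
  subst hb; exact ⟨_, lblk_126⟩
theorem lo_127_128 : ∀ b, 127 ≤ b → b < 128 → ∃ J, chkPBlk P 5 31 40 14080 b J = true := fun b h1 h2 => by
  have hb : b = 127 := Nat.le_antisymm (Nat.le_of_lt_succ h2) h1
  subst hb; exact ⟨_, lblk_127⟩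
theorem lo_128_129 : ∀ b, 128 ≤ b → b < 129 → ∃ J, chkPBlk P 5 31 40 14080 b J = true := fun b h1 h2 => by
  have hb : b = 128 := Nat.le_antisymm (Nat.le_of_lt_succ h2) h1
  subst hb; exact ⟨_, lblk_128⟩
theorem lo_127_129 : ∀ b, 127 ≤ b → b < 129 → ∃ J, chkPBlk P 5 31 40 14080 b J = true := fun b h1 h2 =>
  if h : b < 128 then lo_127_128 b h1 h else lo_128_129 b (Nat.le_of_not_lt h) h2
theorem lo_126_129 : ∀ b, 126 ≤ b → b < 129 → ∃ J, chkPBlk P 5 31 40 14080 b J = true := fun b h1 h2 =>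
  if h : b < 127 then lo_126_127 b h1 h else lo_127_129 b (Nat.le_of_not_lt h) h2
theorem lo_129_130 : ∀ b, 129 ≤ b → b < 130 → ∃ J, chkPBlk P 5 31 40 14080 b J = true := fun b h1 h2 => by
  have hb : b = 129 := Nat.le_antisymm (Nat.le_of_lt_succ h2) h1
  subst hb; exact ⟨_, lblk_129⟩
theorem lo_130_131 : ∀ b, 130 ≤ b → b < 131 → ∃ J, chkPBlk P 5 31 40 14080 b J = true := fun b h1 h2 => by
  have hb : b = 130 := Nat.le_antisymm (Nat.le_of_lt_succ h2) h1
  subst hb; exact ⟨_, lblk_130⟩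
theorem lo_131_132 : ∀ b, 131 ≤ b → b < 132 → ∃ J, chkPBlk P 5 31 40 14080 b J = true := fun b h1 h2 => by
  have hb : b = 131 := Nat.le_antisymm (Nat.le_of_lt_succ h2) h1
  subst hb; exact ⟨_, lblk_131⟩
theorem lo_130_132 : ∀ b, 130 ≤ b → b < 132 → ∃ J, chkPBlk P 5 31 40 14080 b J = true := fun b h1 h2 =>
  if h : b < 131 then lo_130_131 b h1 h else lo_131_132 b (Nat.le_of_not_lt h) h2
theorem lo_129_132 : ∀ b, 129 ≤ b → b < 132 → ∃ J, chkPBlk P 5 31 40 14080 b J = true := fun b h1 h2 =>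
  if h : b < 130 then lo_129_130 b h1 h else lo_130_132 b (Nat.le_of_not_lt h) h2
theorem lo_126_132 : ∀ b, 126 ≤ b → b < 132 → ∃ J, chkPBlk P 5 31 40 14080 b J = true := fun b h1 h2 =>
  if h : b < 129 then lo_126_129 b h1 h else lo_129_132 b (Nat.le_of_not_lt h) h2
theorem lo_121_132 : ∀ b, 121 ≤ b → b < 132 → ∃ J, chkPBlk P 5 31 40 14080 b J = true := fun b h1 h2 =>
  if h : b < 126 then lo_121_126 b h1 h else lo_126_132 b (Nat.le_of_not_lt h) h2
theorem lo_110_132 : ∀ b, 110 ≤ b → b < 132 → ∃ J, chkPBlk P 5 31 40 14080 b J = true := fun b h1 h2 =>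
  if h : b < 121 then lo_110_121 b h1 h else lo_121_132 b (Nat.le_of_not_lt h) h2
theorem lo_88_132 : ∀ b, 88 ≤ b → b < 132 → ∃ J, chkPBlk P 5 31 40 14080 b J = true := fun b h1 h2 =>
  if h : b < 110 then lo_88_110 b h1 h else lo_110_132 b (Nat.le_of_not_lt h) h2
theorem lo_132_133 : ∀ b, 132 ≤ b → b < 133 → ∃ J, chkPBlk P 5 31 40 14080 b J = true := fun b h1 h2 => by
  have hb : b = 132 := Nat.le_antisymm (Nat.le_of_lt_succ h2) h1
  subst hb; exact ⟨_, lblk_132⟩
theorem lo_133_134 : ∀ b, 133 ≤ b → b < 134 → ∃ J, chkPBlk P 5 31 40 14080 b J = true := fun b h1 h2 => by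
  have hb : b = 133 := Nat.le_antisymm (Nat.le_of_lt_succ h2) h1
  subst hb; exact ⟨_, lblk_133⟩
theorem lo_132_134 : ∀ b, 132 ≤ b → b < 134 → ∃ J, chkPBlk P 5 31 40 14080 b J = true := fun b h1 h2 =>
  if h : b < 133 then lo_132_133 b h1 h else lo_133_134 b (Nat.le_of_not_lt h) h2
theorem lo_134_135 : ∀ b, 134 ≤ b → b < 135 → ∃ J, chkPBlk P 5 31 40 14080 b J = true := fun b h1 h2 => by
  have hb : b = 134 := Nat.le_antisymm (Nat.le_of_lt_succ h2) h1
  subst hb; exact ⟨_, lblk_134⟩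
theorem lo_135_136 : ∀ b, 135 ≤ b → b < 136 → ∃ J, chkPBlk P 5 31 40 14080 b J = true := fun b h1 h2 => by
  have hb : b = 135 := Nat.le_antisymm (Nat.le_of_lt_succ h2) h1
  subst hb; exact ⟨_, lblk_135⟩
theorem lo_136_137 : ∀ b, 136 ≤ b → b < 137 → ∃ J, chkPBlk P 5 31 40 14080 b J = true := fun b h1 h2 => by
  have hb : b = 136 := Nat.le_antisymm (Nat.le_of_lt_succ h2) h1
  subst hb; exact ⟨_, lblk_136⟩
theorem lo_135_137 : ∀ b, 135 ≤ b → b < 137 → ∃ J, chkPBlk P 5 31 40 14080 b J = true := fun b h1 h2 =>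
  if h : b < 136 then lo_135_136 b h1 h else lo_136_137 b (Nat.le_of_not_lt h) h2
theorem lo_134_137 : ∀ b, 134 ≤ b → b < 137 → ∃ J, chkPBlk P 5 31 40 14080 b J = true := fun b h1 h2 =>
  if h : b < 135 then lo_134_135 b h1 h else lo_135_137 b (Nat.le_of_not_lt h) h2
theorem lo_132_137 : ∀ b, 132 ≤ b → b < 137 → ∃ J, chkPBlk P 5 31 40 14080 b J = true := fun b h1 h2 =>
  if h : b < 134 then lo_132_134 b h1 h else lo_134_137 b (Nat.le_of_not_lt h) h2
theorem lo_137_138 : ∀ b, 137 ≤ b → b < 138 → ∃ J, chkPBlk P 5 31 40 14080 b J = true := fun b h1 h2 => by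
  have hb : b = 137 := Nat.le_antisymm (Nat.le_of_lt_succ h2) h1
  subst hb; exact ⟨_, lblk_137⟩
theorem lo_138_139 : ∀ b, 138 ≤ b → b < 139 → ∃ J, chkPBlk P 5 31 40 14080 b J = true := fun b h1 h2 => by
  have hb : b = 138 := Nat.le_antisymm (Nat.le_of_lt_succ h2) h1
  subst hb; exact ⟨_, lblk_138⟩
theorem lo_139_140 : ∀ b, 139 ≤ b → b < 140 → ∃ J, chkPBlk P 5 31 40 14080 b J = true := fun b h1 h2 => by
  have hb : b = 139 := Nat.le_antisymm (Nat.le_of_lt_succ h2) h1
  subst hb; exact ⟨_, lblk_139⟩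
theorem lo_138_140 : ∀ b, 138 ≤ b → b < 140 → ∃ J, chkPBlk P 5 31 40 14080 b J = true := fun b h1 h2 =>
  if h : b < 139 then lo_138_139 b h1 h else lo_139_140 b (Nat.le_of_not_lt h) h2
theorem lo_137_140 : ∀ b, 137 ≤ b → b < 140 → ∃ J, chkPBlk P 5 31 40 14080 b J = true := fun b h1 h2 =>
  if h : b < 138 then lo_137_138 b h1 h else lo_138_140 b (Nat.le_of_not_lt h) h2
theorem lo_140_141 : ∀ b, 140 ≤ b → b < 141 → ∃ J, chkPBlk P 5 31 40 14080 b J = true := fun b h1 h2 => by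
  have hb : b = 140 := Nat.le_antisymm (Nat.le_of_lt_succ h2) h1
  subst hb; exact ⟨_, lblk_140⟩
theorem lo_141_142 : ∀ b, 141 ≤ b → b < 142 → ∃ J, chkPBlk P 5 31 40 14080 b J = true := fun b h1 h2 => by
  have hb : b = 141 := Nat.le_antisymm (Nat.le_of_lt_succ h2) h1
  subst hb; exact ⟨_, lblk_141⟩
theorem lo_142_143 : ∀ b, 142 ≤ b → b < 143 → ∃ J, chkPBlk P 5 31 40 14080 b J = true := fun b h1 h2 => by
  have hb : b = 142 := Nat.le_antisymm (Nat.le_of_lt_succ h2) h1
  subst hb; exact ⟨_, lblk_142⟩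
theorem lo_141_143 : ∀ b, 141 ≤ b → b < 143 → ∃ J, chkPBlk P 5 31 40 14080 b J = true := fun b h1 h2 =>
  if h : b < 142 then lo_141_142 b h1 h else lo_142_143 b (Nat.le_of_not_lt h) h2
theorem lo_140_143 : ∀ b, 140 ≤ b → b < 143 → ∃ J, chkPBlk P 5 31 40 14080 b J = true := fun b h1 h2 =>
  if h : b < 141 then lo_140_141 b h1 h else lo_141_143 b (Nat.le_of_not_lt h) h2
theorem lo_137_143 : ∀ b, 137 ≤ b → b < 143 → ∃ J, chkPBlk P 5 31 40 14080 b J = true := fun b h1 h2 =>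
  if h : b < 140 then lo_137_140 b h1 h else lo_140_143 b (Nat.le_of_not_lt h) h2
theorem lo_132_143 : ∀ b, 132 ≤ b → b < 143 → ∃ J, chkPBlk P 5 31 40 14080 b J = true := fun b h1 h2 =>
  if h : b < 137 then lo_132_137 b h1 h else lo_137_143 b (Nat.le_of_not_lt h) h2
theorem lo_143_144 : ∀ b, 143 ≤ b → b < 144 → ∃ J, chkPBlk P 5 31 40 14080 b J = true := fun b h1 h2 => by
  have hb : b = 143 := Nat.le_antisymm (Nat.le_of_lt_succ h2) h1
  subst hb; exact ⟨_, lblk_143⟩
theorem lo_144_145 : ∀ b, 144 ≤ b → b < 145 → ∃ J, chkPBlk P 5 31 40 14080 b J = true := fun b h1 h2 => by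
  have hb : b = 144 := Nat.le_antisymm (Nat.le_of_lt_succ h2) h1
  subst hb; exact ⟨_, lblk_144⟩
theorem lo_143_145 : ∀ b, 143 ≤ b → b < 145 → ∃ J, chkPBlk P 5 31 40 14080 b J = true := fun b h1 h2 =>
  if h : b < 144 then lo_143_144 b h1 h else lo_144_145 b (Nat.le_of_not_lt h) h2
theorem lo_145_146 : ∀ b, 145 ≤ b → b < 146 → ∃ J, chkPBlk P 5 31 40 14080 b J = true := fun b h1 h2 => by
  have hb : b = 145 := Nat.le_antisymm (Nat.le_of_lt_succ h2) h1
  subst hb; exact ⟨_, lblk_145⟩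
theorem lo_146_147 : ∀ b, 146 ≤ b → b < 147 → ∃ J, chkPBlk P 5 31 40 14080 b J = true := fun b h1 h2 => by
  have hb : b = 146 := Nat.le_antisymm (Nat.le_of_lt_succ h2) h1
  subst hb; exact ⟨_, lblk_146⟩
theorem lo_147_148 : ∀ b, 147 ≤ b → b < 148 → ∃ J, chkPBlk P 5 31 40 14080 b J = true := fun b h1 h2 => by
  have hb : b = 147 := Nat.le_antisymm (Nat.le_of_lt_succ h2) h1
  subst hb; exact ⟨_, lblk_147⟩
theorem lo_146_148 : ∀ b, 146 ≤ b → b < 148 → ∃ J, chkPBlk P 5 31 40 14080 b J = true := fun b h1 h2 =>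
  if h : b < 147 then lo_146_147 b h1 h else lo_147_148 b (Nat.le_of_not_lt h) h2
theorem lo_145_148 : ∀ b, 145 ≤ b → b < 148 → ∃ J, chkPBlk P 5 31 40 14080 b J = true := fun b h1 h2 =>
  if h : b < 146 then lo_145_146 b h1 h else lo_146_148 b (Nat.le_of_not_lt h) h2
theorem lo_143_148 : ∀ b, 143 ≤ b → b < 148 → ∃ J, chkPBlk P 5 31 40 14080 b J = true := fun b h1 h2 =>
  if h : b < 145 then lo_143_145 b h1 h else lo_145_148 b (Nat.le_of_not_lt h) h2
theorem lo_148_149 : ∀ b, 148 ≤ b → b < 149 → ∃ J, chkPBlk P 5 31 40 14080 b J = true := fun b h1 h2 => by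
  have hb : b = 148 := Nat.le_antisymm (Nat.le_of_lt_succ h2) h1
  subst hb; exact ⟨_, lblk_148⟩
theorem lo_149_150 : ∀ b, 149 ≤ b → b < 150 → ∃ J, chkPBlk P 5 31 40 14080 b J = true := fun b h1 h2 => by
  have hb : b = 149 := Nat.le_antisymm (Nat.le_of_lt_succ h2) h1
  subst hb; exact ⟨_, lblk_149⟩
theorem lo_150_151 : ∀ b, 150 ≤ b → b < 151 → ∃ J, chkPBlk P 5 31 40 14080 b J = true := fun b h1 h2 => by
  have hb : b = 150 := Nat.le_antisymm (Nat.le_of_lt_succ h2) h1
  subst hb; exact ⟨_, lblk_150⟩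
theorem lo_149_151 : ∀ b, 149 ≤ b → b < 151 → ∃ J, chkPBlk P 5 31 40 14080 b J = true := fun b h1 h2 =>
  if h : b < 150 then lo_149_150 b h1 h else lo_150_151 b (Nat.le_of_not_lt h) h2
theorem lo_148_151 : ∀ b, 148 ≤ b → b < 151 → ∃ J, chkPBlk P 5 31 40 14080 b J = true := fun b h1 h2 =>
  if h : b < 149 then lo_148_149 b h1 h else lo_149_151 b (Nat.le_of_not_lt h) h2
theorem lo_151_152 : ∀ b, 151 ≤ b → b < 152 → ∃ J, chkPBlk P 5 31 40 14080 b J = true := fun b h1 h2 => by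
  have hb : b = 151 := Nat.le_antisymm (Nat.le_of_lt_succ h2) h1
  subst hb; exact ⟨_, lblk_151⟩
theorem lo_152_153 : ∀ b, 152 ≤ b → b < 153 → ∃ J, chkPBlk P 5 31 40 14080 b J = true := fun b h1 h2 => by
  have hb : b = 152 := Nat.le_antisymm (Nat.le_of_lt_succ h2) h1
  subst hb; exact ⟨_, lblk_152⟩
theorem lo_153_154 : ∀ b, 153 ≤ b → b < 154 → ∃ J, chkPBlk P 5 31 40 14080 b J = true := fun b h1 h2 => by
  have hb : b = 153 := Nat.le_antisymm (Nat.le_of_lt_succ h2) h1
  subst hb; exact ⟨_, lblk_153⟩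
theorem lo_152_154 : ∀ b, 152 ≤ b → b < 154 → ∃ J, chkPBlk P 5 31 40 14080 b J = true := fun b h1 h2 =>
  if h : b < 153 then lo_152_153 b h1 h else lo_153_154 b (Nat.le_of_not_lt h) h2
theorem lo_151_154 : ∀ b, 151 ≤ b → b < 154 → ∃ J, chkPBlk P 5 31 40 14080 b J = true := fun b h1 h2 =>
  if h : b < 152 then lo_151_152 b h1 h else lo_152_154 b (Nat.le_of_not_lt h) h2
theorem lo_148_154 : ∀ b, 148 ≤ b → b < 154 → ∃ J, chkPBlk P 5 31 40 14080 b J = true := fun b h1 h2 =>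
  if h : b < 151 then lo_148_151 b h1 h else lo_151_154 b (Nat.le_of_not_lt h) h2
theorem lo_143_154 : ∀ b, 143 ≤ b → b < 154 → ∃ J, chkPBlk P 5 31 40 14080 b J = true := fun b h1 h2 =>
  if h : b < 148 then lo_143_148 b h1 h else lo_148_154 b (Nat.le_of_not_lt h) h2
theorem lo_132_154 : ∀ b, 132 ≤ b → b < 154 → ∃ J, chkPBlk P 5 31 40 14080 b J = true := fun b h1 h2 =>
  if h : b < 143 then lo_132_143 b h1 h else lo_143_154 b (Nat.le_of_not_lt h) h2
theorem lo_154_155 : ∀ b, 154 ≤ b → b < 155 → ∃ J, chkPBlk P 5 31 40 14080 b J = true := fun b h1 h2 => by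
  have hb : b = 154 := Nat.le_antisymm (Nat.le_of_lt_succ h2) h1
  subst hb; exact ⟨_, lblk_154⟩
theorem lo_155_156 : ∀ b, 155 ≤ b → b < 156 → ∃ J, chkPBlk P 5 31 40 14080 b J = true := fun b h1 h2 => by
  have hb : b = 155 := Nat.le_antisymm (Nat.le_of_lt_succ h2) h1
  subst hb; exact ⟨_, lblk_155⟩
theorem lo_154_156 : ∀ b, 154 ≤ b → b < 156 → ∃ J, chkPBlk P 5 31 40 14080 b J = true := fun b h1 h2 =>
  if h : b < 155 then lo_154_155 b h1 h else lo_155_156 b (Nat.le_of_not_lt h) h2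
theorem lo_156_157 : ∀ b, 156 ≤ b → b < 157 → ∃ J, chkPBlk P 5 31 40 14080 b J = true := fun b h1 h2 => by
  have hb : b = 156 := Nat.le_antisymm (Nat.le_of_lt_succ h2) h1
  subst hb; exact ⟨_, lblk_156⟩
theorem lo_157_158 : ∀ b, 157 ≤ b → b < 158 → ∃ J, chkPBlk P 5 31 40 14080 b J = true := fun b h1 h2 => by
  have hb : b = 157 := Nat.le_antisymm (Nat.le_of_lt_succ h2) h1
  subst hb; exact ⟨_, lblk_157⟩
theorem lo_158_159 : ∀ b, 158 ≤ b → b < 159 → ∃ J, chkPBlk P 5 31 40 14080 b J = true := fun b h1 h2 => by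
  have hb : b = 158 := Nat.le_antisymm (Nat.le_of_lt_succ h2) h1
  subst hb; exact ⟨_, lblk_158⟩
theorem lo_157_159 : ∀ b, 157 ≤ b → b < 159 → ∃ J, chkPBlk P 5 31 40 14080 b J = true := fun b h1 h2 =>
  if h : b < 158 then lo_157_158 b h1 h else lo_158_159 b (Nat.le_of_not_lt h) h2
theorem lo_156_159 : ∀ b, 156 ≤ b → b < 159 → ∃ J, chkPBlk P 5 31 40 14080 b J = true := fun b h1 h2 =>
  if h : b < 157 then lo_156_157 b h1 h else lo_157_159 b (Nat.le_of_not_lt h) h2
theorem lo_154_159 : ∀ b, 154 ≤ b → b < 159 → ∃ J, chkPBlk P 5 31 40 14080 b J = true := fun b h1 h2 =>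
  if h : b < 156 then lo_154_156 b h1 h else lo_156_159 b (Nat.le_of_not_lt h) h2
theorem lo_159_160 : ∀ b, 159 ≤ b → b < 160 → ∃ J, chkPBlk P 5 31 40 14080 b J = true := fun b h1 h2 => by
  have hb : b = 159 := Nat.le_antisymm (Nat.le_of_lt_succ h2) h1
  subst hb; exact ⟨_, lblk_159⟩
theorem lo_160_161 : ∀ b, 160 ≤ b → b < 161 → ∃ J, chkPBlk P 5 31 40 14080 b J = true := fun b h1 h2 => by
  have hb : b = 160 := Nat.le_antisymm (Nat.le_of_lt_succ h2) h1
  subst hb; exact ⟨_, lblk_160⟩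
theorem lo_161_162 : ∀ b, 161 ≤ b → b < 162 → ∃ J, chkPBlk P 5 31 40 14080 b J = true := fun b h1 h2 => by
  have hb : b = 161 := Nat.le_antisymm (Nat.le_of_lt_succ h2) h1
  subst hb; exact ⟨_, lblk_161⟩
theorem lo_160_162 : ∀ b, 160 ≤ b → b < 162 → ∃ J, chkPBlk P 5 31 40 14080 b J = true := fun b h1 h2 =>
  if h : b < 161 then lo_160_161 b h1 h else lo_161_162 b (Nat.le_of_not_lt h) h2
theorem lo_159_162 : ∀ b, 159 ≤ b → b < 162 → ∃ J, chkPBlk P 5 31 40 14080 b J = true := fun b h1 h2 =>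
  if h : b < 160 then lo_159_160 b h1 h else lo_160_162 b (Nat.le_of_not_lt h) h2
theorem lo_162_163 : ∀ b, 162 ≤ b → b < 163 → ∃ J, chkPBlk P 5 31 40 14080 b J = true := fun b h1 h2 => by
  have hb : b = 162 := Nat.le_antisymm (Nat.le_of_lt_succ h2) h1
  subst hb; exact ⟨_, lblk_162⟩
theorem lo_163_164 : ∀ b, 163 ≤ b → b < 164 → ∃ J, chkPBlk P 5 31 40 14080 b J = true := fun b h1 h2 => by
  have hb : b = 163 := Nat.le_antisymm (Nat.le_of_lt_succ h2) h1
  subst hb; exact ⟨_, lblk_163⟩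
theorem lo_164_165 : ∀ b, 164 ≤ b → b < 165 → ∃ J, chkPBlk P 5 31 40 14080 b J = true := fun b h1 h2 => by
  have hb : b = 164 := Nat.le_antisymm (Nat.le_of_lt_succ h2) h1
  subst hb; exact ⟨_, lblk_164⟩
theorem lo_163_165 : ∀ b, 163 ≤ b → b < 165 → ∃ J, chkPBlk P 5 31 40 14080 b J = true := fun b h1 h2 =>
  if h : b < 164 then lo_163_164 b h1 h else lo_164_165 b (Nat.le_of_not_lt h) h2
theorem lo_162_165 : ∀ b, 162 ≤ b → b < 165 → ∃ J, chkPBlk P 5 31 40 14080 b J = true := fun b h1 h2 =>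
  if h : b < 163 then lo_162_163 b h1 h else lo_163_165 b (Nat.le_of_not_lt h) h2
theorem lo_159_165 : ∀ b, 159 ≤ b → b < 165 → ∃ J, chkPBlk P 5 31 40 14080 b J = true := fun b h1 h2 =>
  if h : b < 162 then lo_159_162 b h1 h else lo_162_165 b (Nat.le_of_not_lt h) h2
theorem lo_154_165 : ∀ b, 154 ≤ b → b < 165 → ∃ J, chkPBlk P 5 31 40 14080 b J = true := fun b h1 h2 =>
  if h : b < 159 then lo_154_159 b h1 h else lo_159_165 b (Nat.le_of_not_lt h) h2
theorem lo_165_166 : ∀ b, 165 ≤ b → b < 166 → ∃ J, chkPBlk P 5 31 40 14080 b J = true := fun b h1 h2 => by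
  have hb : b = 165 := Nat.le_antisymm (Nat.le_of_lt_succ h2) h1
  subst hb; exact ⟨_, lblk_165⟩
theorem lo_166_167 : ∀ b, 166 ≤ b → b < 167 → ∃ J, chkPBlk P 5 31 40 14080 b J = true := fun b h1 h2 => by
  have hb : b = 166 := Nat.le_antisymm (Nat.le_of_lt_succ h2) h1
  subst hb; exact ⟨_, lblk_166⟩
theorem lo_165_167 : ∀ b, 165 ≤ b → b < 167 → ∃ J, chkPBlk P 5 31 40 14080 b J = true := fun b h1 h2 =>
  if h : b < 166 then lo_165_166 b h1 h else lo_166_167 b (Nat.le_of_not_lt h) h2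
theorem lo_167_168 : ∀ b, 167 ≤ b → b < 168 → ∃ J, chkPBlk P 5 31 40 14080 b J = true := fun b h1 h2 => by
  have hb : b = 167 := Nat.le_antisymm (Nat.le_of_lt_succ h2) h1
  subst hb; exact ⟨_, lblk_167⟩
theorem lo_168_169 : ∀ b, 168 ≤ b → b < 169 → ∃ J, chkPBlk P 5 31 40 14080 b J = true := fun b h1 h2 => by
  have hb : b = 168 := Nat.le_antisymm (Nat.le_of_lt_succ h2) h1
  subst hb; exact ⟨_, lblk_168⟩
theorem lo_169_170 : ∀ b, 169 ≤ b → b < 170 → ∃ J, chkPBlk P 5 31 40 14080 b J = true := fun b h1 h2 => by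
  have hb : b = 169 := Nat.le_antisymm (Nat.le_of_lt_succ h2) h1
  subst hb; exact ⟨_, lblk_169⟩
theorem lo_168_170 : ∀ b, 168 ≤ b → b < 170 → ∃ J, chkPBlk P 5 31 40 14080 b J = true := fun b h1 h2 =>
  if h : b < 169 then lo_168_169 b h1 h else lo_169_170 b (Nat.le_of_not_lt h) h2
theorem lo_167_170 : ∀ b, 167 ≤ b → b < 170 → ∃ J, chkPBlk P 5 31 40 14080 b J = true := fun b h1 h2 =>
  if h : b < 168 then lo_167_168 b h1 h else lo_168_170 b (Nat.le_of_not_lt h) h2
theorem lo_165_170 : ∀ b, 165 ≤ b → b < 170 → ∃ J, chkPBlk P 5 31 40 14080 b J = true := fun b h1 h2 =>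
  if h : b < 167 then lo_165_167 b h1 h else lo_167_170 b (Nat.le_of_not_lt h) h2
theorem lo_170_171 : ∀ b, 170 ≤ b → b < 171 → ∃ J, chkPBlk P 5 31 40 14080 b J = true := fun b h1 h2 => by
  have hb : b = 170 := Nat.le_antisymm (Nat.le_of_lt_succ h2) h1
  subst hb; exact ⟨_, lblk_170⟩
theorem lo_171_172 : ∀ b, 171 ≤ b → b < 172 → ∃ J, chkPBlk P 5 31 40 14080 b J = true := fun b h1 h2 => by
  have hb : b = 171 := Nat.le_antisymm (Nat.le_of_lt_succ h2) h1
  subst hb; exact ⟨_, lblk_171⟩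
theorem lo_172_173 : ∀ b, 172 ≤ b → b < 173 → ∃ J, chkPBlk P 5 31 40 14080 b J = true := fun b h1 h2 => by
  have hb : b = 172 := Nat.le_antisymm (Nat.le_of_lt_succ h2) h1
  subst hb; exact ⟨_, lblk_172⟩
theorem lo_171_173 : ∀ b, 171 ≤ b → b < 173 → ∃ J, chkPBlk P 5 31 40 14080 b J = true := fun b h1 h2 =>
  if h : b < 172 then lo_171_172 b h1 h else lo_172_173 b (Nat.le_of_not_lt h) h2
theorem lo_170_173 : ∀ b, 170 ≤ b → b < 173 → ∃ J, chkPBlk P 5 31 40 14080 b J = true := fun b h1 h2 =>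
  if h : b < 171 then lo_170_171 b h1 h else lo_171_173 b (Nat.le_of_not_lt h) h2
theorem lo_173_174 : ∀ b, 173 ≤ b → b < 174 → ∃ J, chkPBlk P 5 31 40 14080 b J = true := fun b h1 h2 => by
  have hb : b = 173 := Nat.le_antisymm (Nat.le_of_lt_succ h2) h1
  subst hb; exact ⟨_, lblk_173⟩
theorem lo_174_175 : ∀ b, 174 ≤ b → b < 175 → ∃ J, chkPBlk P 5 31 40 14080 b J = true := fun b h1 h2 => by
  have hb : b = 174 := Nat.le_antisymm (Nat.le_of_lt_succ h2) h1
  subst hb; exact ⟨_, lblk_174⟩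
theorem lo_175_176 : ∀ b, 175 ≤ b → b < 176 → ∃ J, chkPBlk P 5 31 40 14080 b J = true := fun b h1 h2 => by
  have hb : b = 175 := Nat.le_antisymm (Nat.le_of_lt_succ h2) h1
  subst hb; exact ⟨_, lblk_175⟩
theorem lo_174_176 : ∀ b, 174 ≤ b → b < 176 → ∃ J, chkPBlk P 5 31 40 14080 b J = true := fun b h1 h2 =>
  if h : b < 175 then lo_174_175 b h1 h else lo_175_176 b (Nat.le_of_not_lt h) h2
theorem lo_173_176 : ∀ b, 173 ≤ b → b < 176 → ∃ J, chkPBlk P 5 31 40 14080 b J = true := fun b h1 h2 =>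
  if h : b < 174 then lo_173_174 b h1 h else lo_174_176 b (Nat.le_of_not_lt h) h2
theorem lo_170_176 : ∀ b, 170 ≤ b → b < 176 → ∃ J, chkPBlk P 5 31 40 14080 b J = true := fun b h1 h2 =>
  if h : b < 173 then lo_170_173 b h1 h else lo_173_176 b (Nat.le_of_not_lt h) h2
theorem lo_165_176 : ∀ b, 165 ≤ b → b < 176 → ∃ J, chkPBlk P 5 31 40 14080 b J = true := fun b h1 h2 =>
  if h : b < 170 then lo_165_170 b h1 h else lo_170_176 b (Nat.le_of_not_lt h) h2
theorem lo_154_176 : ∀ b, 154 ≤ b → b < 176 → ∃ J, chkPBlk P 5 31 40 14080 b J = true := fun b h1 h2 =>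
  if h : b < 165 then lo_154_165 b h1 h else lo_165_176 b (Nat.le_of_not_lt h) h2
theorem lo_132_176 : ∀ b, 132 ≤ b → b < 176 → ∃ J, chkPBlk P 5 31 40 14080 b J = true := fun b h1 h2 =>
  if h : b < 154 then lo_132_154 b h1 h else lo_154_176 b (Nat.le_of_not_lt h) h2
theorem lo_88_176 : ∀ b, 88 ≤ b → b < 176 → ∃ J, chkPBlk P 5 31 40 14080 b J = true := fun b h1 h2 =>
  if h : b < 132 then lo_88_132 b h1 h else lo_132_176 b (Nat.le_of_not_lt h) h2

end Cfsg.Agent.Lib.Helper29.S1685
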