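import Cfsg.Agent.Lib.Helper29.S1685.Data

set_option autoImplicit false
set_option Elab.async false

namespace Cfsg.Agent.Lib.Helper29.S1685

open Cfsg.Agent.Lib.Helper29.TcTrace Cfsg.Agent.Lib.Helper29.TcCert Cfsg.Agent.Lib.Helper29.TcPerm

theorem lblk_176 : chkPBlk P 5 31 40 14080 176 0x2088339ca40904410c672086740ce7290241104319d0410c67 = true := by decide +kernel
theorem lblk_177 : chkPBlk P 5 31 40 14080 177 0x3908219c673a1083a06839883088a410ce410cc5190a409481 = true := by decide +kernel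
theorem lblk_178 : chkPBlk P 5 31 40 14080 178 0x114812088218ce628ca4090432086339d033a08740d0708c67 = true := by decide +kernel
theorem lblk_179 : chkPBlk P 5 31 40 14080 179 0x190a4090433a0c628c85204e52048220867414a4098a429024 = true := by decide +kernel
theorem lblk_180 : chkPBlk P 5 31 40 14080 180 0x41ce8398a629486298a52104339ce410ce8314a628c8839cc5 = true := by decide +kernel
theorem lblk_181 : chkPBlk P 5 31 40 14080 181 0x38ce7420e740d07304821904338ce74210419d07420e6220e5 = true := by decide +kernel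
theorem lblk_182 : chkPBlk P 5 31 40 14080 182 0x19ce72086719ce8420e831d0519d04204820904310c673a043 = true := by decide +kernel
theorem lblk_183 : chkPBlk P 5 31 40 14080 183 0x2904338ce74210410ce83a1073110728c812082410c8120862 = true := by decide +kernel
theorem lblk_184 : chkPBlk P 5 31 40 14080 184 0x2086410c673a0e81a0e52908219c673a10741cc740d0731023 = true := by decide +kernel
theorem lblk_185 : chkPBlk P 5 31 40 14080 185 0x28ca42088218ce741d0341ca33a08740d0741cc32048231481 = true := by decide +kernel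
theorem lblk_186 : chkPBlk P 5 31 40 14080 186 0x110433a048190433a0a33a0881a067314a420ce33a0e81a0e6 = true := by decide +kernel
theorem lblk_187 : chkPBlk P 5 31 40 14080 187 0x3a10731107294833a0c33a104318a521067418e53146521484 = true := by decide +kernel
theorem lblk_188 : chkPBlk P 5 31 40 14080 188 0x2104338ce7420e8398e81a0e6204821904338ce74210410ce8 = true := by decide +kernel
theorem lblk_189 : chkPBlk P 5 31 40 14080 189 0x208673a067410e81a0e320482314812086410c673a0e81a0e5 = true := by decide +kernel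
theorem lblk_190 : chkPBlk P 5 31 40 14080 190 0x40d07310a419ce629ce5314652104410ce8418a419d0628ca4 = true := by decide +kernel
theorem lblk_191 : chkPBlk P 5 31 40 14080 191 0x3a0e841c67410e81a0e8398611904319ce72104338ce742107 = true := by decide +kernel
theorem lblk_192 : chkPBlk P 5 31 40 14080 192 0x394813148520482290241104319c673a0c5194812086410c67 = true := by decide +kernel
theorem lblk_193 : chkPBlk P 5 31 40 14080 193 0x210433a0c7414c510cc7298a32908219c8219d0519d043a068 = true := by decide +kernel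
theorem lblk_194 : chkPBlk P 5 31 40 14080 194 0x19ce841cc318ce738ce74210320ce83a0c641cc431ca628ca4 = true := by decide +kernel
theorem lblk_195 : chkPBlk P 5 31 40 14080 195 0x305073104520ce8314c5290841104331ca6294841104319c82 = true := by decide +kernel
theorem lblk_196 : chkPBlk P 5 31 40 14080 196 0x3a08740d07418812048218c6739c8410ce339d0841d03420e7 = true := by decide +kernel
theorem lblk_197 : chkPBlk P 5 31 40 14080 197 0x31485094812088218ce33a0e818ca4090432086339d07420e3 = true := by decide +kernel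
theorem lblk_198 : chkPBlk P 5 31 40 14080 198 0x19481208821948219c8218ca4090441904319c821a067390a1 = true := by decide +kernel
theorem lblk_199 : chkPBlk P 5 31 40 14080 199 0x40c640886219ce33a08740d083948219482298a32148129068 = true := by decide +kernel
theorem lblk_200 : chkPBlk P 5 31 40 14080 200 0x2902509043394c5190a4090452048220863390433a0a33a087 = true := by decide +kernel
theorem lblk_201 : chkPBlk P 5 31 40 14080 201 0x2a107298a3210433a0a33146440ca40948120867418a131464 = true := by decide +kernel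
theorem lblk_202 : chkPBlk P 5 31 40 14080 202 0x10c6739c8219c673a1083a06839888420c6318a521043318e5 = true := by decide +kernel
theorem lblk_203 : chkPBlk P 5 31 40 14080 203 0x21024090411104319c2410c4319ce819d043a0683848120864 = true := by decide +kernel
theorem lblk_204 : chkPBlk P 5 31 40 14080 204 0x41cc438c85210241102218c812086219ce719d07418833a0a3 = true := by decide +kernel
theorem lblk_205 : chkPBlk P 5 31 40 14080 205 0x28ce821d0341d0730ca408c8218ce73948410ce339d0841d03 = true := by decide +kernel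
theorem lblk_206 : chkPBlk P 5 31 40 14080 206 0x114812088218ce33a0e81a0e628ca4090432086339d0740d07 = true := by decide +kernel
theorem lblk_207 : chkPBlk P 5 31 40 14080 207 0x3a04740d072086741467410e819d0341ca839864098a429024 = true := by decide +kernel
theorem lblk_208 : chkPBlk P 5 31 40 14080 208 0x3086742082318a52104338ce83a066394c5194852104410ce3 = true := by decide +kernel
theorem lblk_209 : chkPBlk P 5 31 40 14080 209 0x39ca6314a419d07310c7298a3314652148411d081148410ce8 = true := by decide +kernel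
theorem lblk_210 : chkPBlk P 5 31 40 14080 210 0x41cc3084821904319ce72104338ce74210740d07310a419d03 = true := by decide +kernel
theorem lblk_211 : chkPBlk P 5 31 40 14080 211 0x2088218ce33a0e818ca4090432086339d07420e33a08740d07 = true := by decide +kernel
theorem lblk_212 : chkPBlk P 5 31 40 14080 212 0x19ce53146521043390433a06741d0838c84098a42902411481 = true := by decide +kernel
theorem lblk_213 : chkPBlk P 5 31 40 14080 213 0x2086339ce33a08740d081948332086394a3290a420867398a2 = true := by decide +kernel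
theorem lblk_214 : chkPBlk P 5 31 40 14080 214 0x1104319c673a08219d0519d043a06740d0741cc110c6320443 = true := by decide +kernel
theorem lblk_215 : chkPBlk P 5 31 40 14080 215 0x298a5204c52148129024110432086339ca628c852048229024 = true := by decide +kernel
theorem lblk_216 : chkPBlk P 5 31 40 14080 216 0x3182241cc431ca628ca410ca420867418833a0a33a08740ca6 = true := by decide +kernel
theorem lblk_217 : chkPBlk P 5 31 40 14080 217 0x18ce74206419ce74104338d0839907310c7298a3210433a0e8 = true := by decide +kernel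
theorem lblk_218 : chkPBlk P 5 31 40 14080 218 0x3a10839cc129043398c51948409047318c5290841104329082 = true := by decide +kernel
theorem lblk_219 : chkPBlk P 5 31 40 14080 219 0x2086338ce7410433a06741d07410231902410c4319ce719d04 = true := by decide +kernel
theorem lblk_220 : chkPBlk P 5 31 40 14080 220 0x4146741c82394a4190a410ca2290822902828c852048220482 = true := by decide +kernel
theorem lblk_221 : chkPBlk P 5 31 40 14080 221 0x9464290252048210ca4090433a0c410ce828ce838c4220867 = true := by decide +kernel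
theorem lblk_222 : chkPBlk P 5 31 40 14080 222 0x31424119072904311c63314642902410ce81902831ca5198a4 = true := by decide +kernel
theorem lblk_223 : chkPBlk P 5 31 40 14080 223 0x28ce821d03204812088218c64090432086339ce33a08740d08 = true := by decide +kernel
theorem lblk_224 : chkPBlk P 5 31 40 14080 224 0x19c67414833a0c3214810902411043204820888218ce410ce8 = true := by decide +kernel
theorem lblk_225 : chkPBlk P 5 31 40 14080 225 0x2048218c651948110c8218ce738ce821d03420632148410c62 = true := by decide +kernel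
theorem lblk_226 : chkPBlk P 5 31 40 14080 226 0x290241104319c6741d082086741467410e819d0341ca839885 = true := by decide +kernel
theorem lblk_227 : chkPBlk P 5 31 40 14080 227 0x214813146429025204822086410ce33a0e831ca628c8520482 = true := by decide +kernel
theorem lblk_228 : chkPBlk P 5 31 40 14080 228 0x4148410ce8310433a067410674104740d073a06839466298a3 = true := by decide +kernel
theorem lblk_229 : chkPBlk P 5 31 40 14080 229 0x294812086338ce841cc431ca628cc5194852104410ce819d07 = true := by decide +kernel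
theorem lblk_230 : chkPBlk P 5 31 40 14080 230 0x208e62910839886394c7298a3314a428ca42086740867394c6 = true := by decide +kernel
theorem lblk_231 : chkPBlk P 5 31 40 14080 231 0x19d083a0e60844410c631902410c8218ce738ce821d0342065 = true := by decide +kernel
theorem lblk_232 : chkPBlk P 5 31 40 14080 232 0x1904319d0728c8520482290241104319c673a08219d033a0e8 = true := by decide +kernel
theorem lblk_233 : chkPBlk P 5 31 40 14080 233 0x41c86394c5194821948410ce419c673a065204c52148128482 = true := by decide +kernel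
theorem lblk_234 : chkPBlk P 5 31 40 14080 234 0x404e31102210c6410ce828ce839d052090428ca52104330443 = true := by decide +kernel
theorem lblk_235 : chkPBlk P 5 31 40 14080 235 0x204822086410c672902410ce8310433a0a33a067410e819d03 = true := by decide +kernel
theorem lblk_236 : chkPBlk P 5 31 40 14080 236 0x28ce8218a4314a1090241104341cc729466294813146429025 = true := by decide +kernel
theorem lblk_237 : chkPBlk P 5 31 40 14080 237 0x1a02839cc839886394c51844628ca420867414833a0c410ce8 = true := by decide +kernel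
theorem lblk_238 : chkPBlk P 5 31 40 14080 238 0x9cc628ca420482294842086339c4419c241210831ca420867 = true := by decide +kernel
theorem lblk_239 : chkPBlk P 5 31 40 14080 239 0x208672086719ce32044210c8219d03420672902410ca3190a4 = true := by decide +kernel
theorem lblk_240 : chkPBlk P 5 31 40 14080 240 0x20867410433a0e5210433a067184e4110a328c840902211481 = true := by decide +kernel
theorem lblk_241 : chkPBlk P 5 31 40 14080 241 0x2048211cc5190a42086241ca328c852044628c852048219d05 = true := by decide +kernel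
theorem lblk_242 : chkPBlk P 5 31 40 14080 242 0x19d033a0642042411081110241104318c8219d0519d0738507 = true := by decide +kernel
theorem lblk_243 : chkPBlk P 5 31 40 14080 243 0x1048310ce62906741021190a40848120882194812086741882 = true := by decide +kernel
theorem lblk_244 : chkPBlk P 5 31 40 14080 244 0x3a10740d052102729464114812084318c8219d0519d073a0e5 = true := by decide +kernel
theorem lblk_245 : chkPBlk P 5 31 40 14080 245 0x29025204822086410ce339ca4090433a0c410ce828ce819d04 = true := by decide +kernel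
theorem lblk_246 : chkPBlk P 5 31 40 14080 246 0x21025204822902410c8219c6741cc431ca5198a32148131464 = true := by decide +kernel
theorem lblk_247 : chkPBlk P 5 31 40 14080 247 0x4148410ce419ca410ce840ce821d033a0e81a0e4314c5190a3 = true := by decide +kernel
theorem lblk_248 : chkPBlk P 5 31 40 14080 248 0x41ce839886394c7298a331465214812086218ce628ca420867 = true := by decide +kernel
theorem lblk_249 : chkPBlk P 5 31 40 14080 249 0x10ce819d073a02542088398e5314e528ca4208e2318a429024 = true := by decide +kernel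
theorem lblk_250 : chkPBlk P 5 31 40 14080 250 0x10ce52048219c8219c6740ce741d08084e3204440888218c64 = true := by decide +kernel
theorem lblk_251 : chkPBlk P 5 31 40 14080 251 0x28ca42086520c8218ce5204e519464204a3210252048220864 = true := by decide +kernel
theorem lblk_252 : chkPBlk P 5 31 40 14080 252 0x38c2211481208674104338c6709ca5210413a0e431ca518446 = true := by decide +kernel
theorem lblk_253 : chkPBlk P 5 31 40 14080 253 0x10cc5190a4090433a0a4090433a08219c8219d0519d033a0e8 = true := by decide +kernel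
theorem lblk_254 : chkPBlk P 5 31 40 14080 254 0x19d06208674102141cc7314c729465190c5194812044409044 = true := by decide +kernel
theorem lblk_255 : chkPBlk P 5 31 40 14080 255 0x904240ce839d07310c7284c7298a32908219cc520d0520482 = true := by decide +kernel
theorem lblk_256 : chkPBlk P 5 31 40 14080 256 0x38843290a409044314632148128ca520482208632086141c64 = true := by decide +kernel
theorem lblk_257 : chkPBlk P 5 31 40 14080 257 0x2048219ca410ce410d052104338c81204822044310c6221043 = true := by decide +kernel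
theorem lblk_258 : chkPBlk P 5 31 40 14080 258 0x210240904211481208674104338c6409ca52048241c6628c85 = true := by decide +kernel
theorem lblk_259 : chkPBlk P 5 31 40 14080 259 0x2904339ca321024088c5214812086741481208672086719023 = true := by decide +kernel
theorem lblk_260 : chkPBlk P 5 31 40 14080 260 0x19d074110721ca328c84088422902410ce82086718ce120866 = true := by decide +kernel
theorem lblk_261 : chkPBlk P 5 31 40 14080 261 0x904320863314642902410ce82902410ce8208672086740ce7 = true := by decide +kernel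
theorem lblk_262 : chkPBlk P 5 31 40 14080 262 0x39907310c7298e5298a3218e528cc5190c5190a409481208a4 = true := by decide +kernel
theorem lblk_263 : chkPBlk P 5 31 40 14080 263 0x3146521043290652048219ce410ce33904338ce83a10220507 = true := by decide +kernel
theorem lo_176_177 : ∀ b, 176 ≤ b → b < 177 → ∃ J, chkPBlk P 5 31 40 14080 b J = true := fun b h1 h2 => by
  have hb : b = 176 := Nat.le_antisymm (Nat.le_of_lt_succ h2) h1
  subst hb; exact ⟨_, lblk_176⟩
theorem lo_177_178 : ∀ b, 177 ≤ b → b < 178 → ∃ J, chkPBlk P 5 31 40 14080 b J = true := fun b h1 h2 => by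
  have hb : b = 177 := Nat.le_antisymm (Nat.le_of_lt_succ h2) h1
  subst hb; exact ⟨_, lblk_177⟩
theorem lo_176_178 : ∀ b, 176 ≤ b → b < 178 → ∃ J, chkPBlk P 5 31 40 14080 b J = true := fun b h1 h2 =>
  if h : b < 177 then lo_176_177 b h1 h else lo_177_178 b (Nat.le_of_not_lt h) h2
theorem lo_178_179 : ∀ b, 178 ≤ b → b < 179 → ∃ J, chkPBlk P 5 31 40 14080 b J = true := fun b h1 h2 => by
  have hb : b = 178 := Nat.le_antisymm (Nat.le_of_lt_succ h2) h1
  subst hb; exact ⟨_, lblk_178⟩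
theorem lo_179_180 : ∀ b, 179 ≤ b → b < 180 → ∃ J, chkPBlk P 5 31 40 14080 b J = true := fun b h1 h2 => by
  have hb : b = 179 := Nat.le_antisymm (Nat.le_of_lt_succ h2) h1
  subst hb; exact ⟨_, lblk_179⟩
theorem lo_180_181 : ∀ b, 180 ≤ b → b < 181 → ∃ J, chkPBlk P 5 31 40 14080 b J = true := fun b h1 h2 => by
  have hb : b = 180 := Nat.le_antisymm (Nat.le_of_lt_succ h2) h1
  subst hb; exact ⟨_, lblk_180⟩
theorem lo_179_181 : ∀ b, 179 ≤ b → b < 181 → ∃ J, chkPBlk P 5 31 40 14080 b J = true := fun b h1 h2 =>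
  if h : b < 180 then lo_179_180 b h1 h else lo_180_181 b (Nat.le_of_not_lt h) h2
theorem lo_178_181 : ∀ b, 178 ≤ b → b < 181 → ∃ J, chkPBlk P 5 31 40 14080 b J = true := fun b h1 h2 =>
  if h : b < 179 then lo_178_179 b h1 h else lo_179_181 b (Nat.le_of_not_lt h) h2
theorem lo_176_181 : ∀ b, 176 ≤ b → b < 181 → ∃ J, chkPBlk P 5 31 40 14080 b J = true := fun b h1 h2 =>
  if h : b < 178 then lo_176_178 b h1 h else lo_178_181 b (Nat.le_of_not_lt h) h2
theorem lo_181_182 : ∀ b, 181 ≤ b → b < 182 → ∃ J, chkPBlk P 5 31 40 14080 b J = true := fun b h1 h2 => by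
  have hb : b = 181 := Nat.le_antisymm (Nat.le_of_lt_succ h2) h1
  subst hb; exact ⟨_, lblk_181⟩
theorem lo_182_183 : ∀ b, 182 ≤ b → b < 183 → ∃ J, chkPBlk P 5 31 40 14080 b J = true := fun b h1 h2 => by
  have hb : b = 182 := Nat.le_antisymm (Nat.le_of_lt_succ h2) h1
  subst hb; exact ⟨_, lblk_182⟩
theorem lo_183_184 : ∀ b, 183 ≤ b → b < 184 → ∃ J, chkPBlk P 5 31 40 14080 b J = true := fun b h1 h2 => by
  have hb : b = 183 := Nat.le_antisymm (Nat.le_of_lt_succ h2) h1
  subst hb; exact ⟨_, lblk_183⟩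
theorem lo_182_184 : ∀ b, 182 ≤ b → b < 184 → ∃ J, chkPBlk P 5 31 40 14080 b J = true := fun b h1 h2 =>
  if h : b < 183 then lo_182_183 b h1 h else lo_183_184 b (Nat.le_of_not_lt h) h2
theorem lo_181_184 : ∀ b, 181 ≤ b → b < 184 → ∃ J, chkPBlk P 5 31 40 14080 b J = true := fun b h1 h2 =>
  if h : b < 182 then lo_181_182 b h1 h else lo_182_184 b (Nat.le_of_not_lt h) h2
theorem lo_184_185 : ∀ b, 184 ≤ b → b < 185 → ∃ J, chkPBlk P 5 31 40 14080 b J = true := fun b h1 h2 => by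
  have hb : b = 184 := Nat.le_antisymm (Nat.le_of_lt_succ h2) h1
  subst hb; exact ⟨_, lblk_184⟩
theorem lo_185_186 : ∀ b, 185 ≤ b → b < 186 → ∃ J, chkPBlk P 5 31 40 14080 b J = true := fun b h1 h2 => by
  have hb : b = 185 := Nat.le_antisymm (Nat.le_of_lt_succ h2) h1
  subst hb; exact ⟨_, lblk_185⟩
theorem lo_186_187 : ∀ b, 186 ≤ b → b < 187 → ∃ J, chkPBlk P 5 31 40 14080 b J = true := fun b h1 h2 => by
  have hb : b = 186 := Nat.le_antisymm (Nat.le_of_lt_succ h2) h1
  subst hb; exact ⟨_, lblk_186⟩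
theorem lo_185_187 : ∀ b, 185 ≤ b → b < 187 → ∃ J, chkPBlk P 5 31 40 14080 b J = true := fun b h1 h2 =>
  if h : b < 186 then lo_185_186 b h1 h else lo_186_187 b (Nat.le_of_not_lt h) h2
theorem lo_184_187 : ∀ b, 184 ≤ b → b < 187 → ∃ J, chkPBlk P 5 31 40 14080 b J = true := fun b h1 h2 =>
  if h : b < 185 then lo_184_185 b h1 h else lo_185_187 b (Nat.le_of_not_lt h) h2
theorem lo_181_187 : ∀ b, 181 ≤ b → b < 187 → ∃ J, chkPBlk P 5 31 40 14080 b J = true := fun b h1 h2 =>
  if h : b < 184 then lo_181_184 b h1 h else lo_184_187 b (Nat.le_of_not_lt h) h2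
theorem lo_176_187 : ∀ b, 176 ≤ b → b < 187 → ∃ J, chkPBlk P 5 31 40 14080 b J = true := fun b h1 h2 =>
  if h : b < 181 then lo_176_181 b h1 h else lo_181_187 b (Nat.le_of_not_lt h) h2
theorem lo_187_188 : ∀ b, 187 ≤ b → b < 188 → ∃ J, chkPBlk P 5 31 40 14080 b J = true := fun b h1 h2 => by
  have hb : b = 187 := Nat.le_antisymm (Nat.le_of_lt_succ h2) h1
  subst hb; exact ⟨_, lblk_187⟩
theorem lo_188_189 : ∀ b, 188 ≤ b → b < 189 → ∃ J, chkPBlk P 5 31 40 14080 b J = true := fun b h1 h2 => by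
  have hb : b = 188 := Nat.le_antisymm (Nat.le_of_lt_succ h2) h1
  subst hb; exact ⟨_, lblk_188⟩
theorem lo_187_189 : ∀ b, 187 ≤ b → b < 189 → ∃ J, chkPBlk P 5 31 40 14080 b J = true := fun b h1 h2 =>
  if h : b < 188 then lo_187_188 b h1 h else lo_188_189 b (Nat.le_of_not_lt h) h2
theorem lo_189_190 : ∀ b, 189 ≤ b → b < 190 → ∃ J, chkPBlk P 5 31 40 14080 b J = true := fun b h1 h2 => by
  have hb : b = 189 := Nat.le_antisymm (Nat.le_of_lt_succ h2) h1
  subst hb; exact ⟨_, lblk_189⟩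
theorem lo_190_191 : ∀ b, 190 ≤ b → b < 191 → ∃ J, chkPBlk P 5 31 40 14080 b J = true := fun b h1 h2 => by
  have hb : b = 190 := Nat.le_antisymm (Nat.le_of_lt_succ h2) h1
  subst hb; exact ⟨_, lblk_190⟩
theorem lo_191_192 : ∀ b, 191 ≤ b → b < 192 → ∃ J, chkPBlk P 5 31 40 14080 b J = true := fun b h1 h2 => by
  have hb : b = 191 := Nat.le_antisymm (Nat.le_of_lt_succ h2) h1
  subst hb; exact ⟨_, lblk_191⟩
theorem lo_190_192 : ∀ b, 190 ≤ b → b < 192 → ∃ J, chkPBlk P 5 31 40 14080 b J = true := fun b h1 h2 =>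
  if h : b < 191 then lo_190_191 b h1 h else lo_191_192 b (Nat.le_of_not_lt h) h2
theorem lo_189_192 : ∀ b, 189 ≤ b → b < 192 → ∃ J, chkPBlk P 5 31 40 14080 b J = true := fun b h1 h2 =>
  if h : b < 190 then lo_189_190 b h1 h else lo_190_192 b (Nat.le_of_not_lt h) h2
theorem lo_187_192 : ∀ b, 187 ≤ b → b < 192 → ∃ J, chkPBlk P 5 31 40 14080 b J = true := fun b h1 h2 =>
  if h : b < 189 then lo_187_189 b h1 h else lo_189_192 b (Nat.le_of_not_lt h) h2
theorem lo_192_193 : ∀ b, 192 ≤ b → b < 193 → ∃ J, chkPBlk P 5 31 40 14080 b J = true := fun b h1 h2 => by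
  have hb : b = 192 := Nat.le_antisymm (Nat.le_of_lt_succ h2) h1
  subst hb; exact ⟨_, lblk_192⟩
theorem lo_193_194 : ∀ b, 193 ≤ b → b < 194 → ∃ J, chkPBlk P 5 31 40 14080 b J = true := fun b h1 h2 => by
  have hb : b = 193 := Nat.le_antisymm (Nat.le_of_lt_succ h2) h1
  subst hb; exact ⟨_, lblk_193⟩
theorem lo_194_195 : ∀ b, 194 ≤ b → b < 195 → ∃ J, chkPBlk P 5 31 40 14080 b J = true := fun b h1 h2 => by
  have hb : b = 194 := Nat.le_antisymm (Nat.le_of_lt_succ h2) h1
  subst hb; exact ⟨_, lblk_194⟩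
theorem lo_193_195 : ∀ b, 193 ≤ b → b < 195 → ∃ J, chkPBlk P 5 31 40 14080 b J = true := fun b h1 h2 =>
  if h : b < 194 then lo_193_194 b h1 h else lo_194_195 b (Nat.le_of_not_lt h) h2
theorem lo_192_195 : ∀ b, 192 ≤ b → b < 195 → ∃ J, chkPBlk P 5 31 40 14080 b J = true := fun b h1 h2 =>
  if h : b < 193 then lo_192_193 b h1 h else lo_193_195 b (Nat.le_of_not_lt h) h2
theorem lo_195_196 : ∀ b, 195 ≤ b → b < 196 → ∃ J, chkPBlk P 5 31 40 14080 b J = true := fun b h1 h2 => by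
  have hb : b = 195 := Nat.le_antisymm (Nat.le_of_lt_succ h2) h1
  subst hb; exact ⟨_, lblk_195⟩
theorem lo_196_197 : ∀ b, 196 ≤ b → b < 197 → ∃ J, chkPBlk P 5 31 40 14080 b J = true := fun b h1 h2 => by
  have hb : b = 196 := Nat.le_antisymm (Nat.le_of_lt_succ h2) h1
  subst hb; exact ⟨_, lblk_196⟩
theorem lo_197_198 : ∀ b, 197 ≤ b → b < 198 → ∃ J, chkPBlk P 5 31 40 14080 b J = true := fun b h1 h2 => by
  have hb : b = 197 := Nat.le_antisymm (Nat.le_of_lt_succ h2) h1
  subst hb; exact ⟨_, lblk_197⟩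
theorem lo_196_198 : ∀ b, 196 ≤ b → b < 198 → ∃ J, chkPBlk P 5 31 40 14080 b J = true := fun b h1 h2 =>
  if h : b < 197 then lo_196_197 b h1 h else lo_197_198 b (Nat.le_of_not_lt h) h2
theorem lo_195_198 : ∀ b, 195 ≤ b → b < 198 → ∃ J, chkPBlk P 5 31 40 14080 b J = true := fun b h1 h2 =>
  if h : b < 196 then lo_195_196 b h1 h else lo_196_198 b (Nat.le_of_not_lt h) h2
theorem lo_192_198 : ∀ b, 192 ≤ b → b < 198 → ∃ J, chkPBlk P 5 31 40 14080 b J = true := fun b h1 h2 =>
  if h : b < 195 then lo_192_195 b h1 h else lo_195_198 b (Nat.le_of_not_lt h) h2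
theorem lo_187_198 : ∀ b, 187 ≤ b → b < 198 → ∃ J, chkPBlk P 5 31 40 14080 b J = true := fun b h1 h2 =>
  if h : b < 192 then lo_187_192 b h1 h else lo_192_198 b (Nat.le_of_not_lt h) h2
theorem lo_176_198 : ∀ b, 176 ≤ b → b < 198 → ∃ J, chkPBlk P 5 31 40 14080 b J = true := fun b h1 h2 =>
  if h : b < 187 then lo_176_187 b h1 h else lo_187_198 b (Nat.le_of_not_lt h) h2
theorem lo_198_199 : ∀ b, 198 ≤ b → b < 199 → ∃ J, chkPBlk P 5 31 40 14080 b J = true := fun b h1 h2 => by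
  have hb : b = 198 := Nat.le_antisymm (Nat.le_of_lt_succ h2) h1
  subst hb; exact ⟨_, lblk_198⟩
theorem lo_199_200 : ∀ b, 199 ≤ b → b < 200 → ∃ J, chkPBlk P 5 31 40 14080 b J = true := fun b h1 h2 => by
  have hb : b = 199 := Nat.le_antisymm (Nat.le_of_lt_succ h2) h1
  subst hb; exact ⟨_, lblk_199⟩
theorem lo_198_200 : ∀ b, 198 ≤ b → b < 200 → ∃ J, chkPBlk P 5 31 40 14080 b J = true := fun b h1 h2 =>
  if h : b < 199 then lo_198_199 b h1 h else lo_199_200 b (Nat.le_of_not_lt h) h2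
theorem lo_200_201 : ∀ b, 200 ≤ b → b < 201 → ∃ J, chkPBlk P 5 31 40 14080 b J = true := fun b h1 h2 => by
  have hb : b = 200 := Nat.le_antisymm (Nat.le_of_lt_succ h2) h1
  subst hb; exact ⟨_, lblk_200⟩
theorem lo_201_202 : ∀ b, 201 ≤ b → b < 202 → ∃ J, chkPBlk P 5 31 40 14080 b J = true := fun b h1 h2 => by
  have hb : b = 201 := Nat.le_antisymm (Nat.le_of_lt_succ h2) h1
  subst hb; exact ⟨_, lblk_201⟩
theorem lo_202_203 : ∀ b, 202 ≤ b → b < 203 → ∃ J, chkPBlk P 5 31 40 14080 b J = true := fun b h1 h2 => by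
  have hb : b = 202 := Nat.le_antisymm (Nat.le_of_lt_succ h2) h1
  subst hb; exact ⟨_, lblk_202⟩
theorem lo_201_203 : ∀ b, 201 ≤ b → b < 203 → ∃ J, chkPBlk P 5 31 40 14080 b J = true := fun b h1 h2 =>
  if h : b < 202 then lo_201_202 b h1 h else lo_202_203 b (Nat.le_of_not_lt h) h2
theorem lo_200_203 : ∀ b, 200 ≤ b → b < 203 → ∃ J, chkPBlk P 5 31 40 14080 b J = true := fun b h1 h2 =>
  if h : b < 201 then lo_200_201 b h1 h else lo_201_203 b (Nat.le_of_not_lt h) h2
theorem lo_198_203 : ∀ b, 198 ≤ b → b < 203 → ∃ J, chkPBlk P 5 31 40 14080 b J = true := fun b h1 h2 =>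
  if h : b < 200 then lo_198_200 b h1 h else lo_200_203 b (Nat.le_of_not_lt h) h2
theorem lo_203_204 : ∀ b, 203 ≤ b → b < 204 → ∃ J, chkPBlk P 5 31 40 14080 b J = true := fun b h1 h2 => by
  have hb : b = 203 := Nat.le_antisymm (Nat.le_of_lt_succ h2) h1
  subst hb; exact ⟨_, lblk_203⟩
theorem lo_204_205 : ∀ b, 204 ≤ b → b < 205 → ∃ J, chkPBlk P 5 31 40 14080 b J = true := fun b h1 h2 => by
  have hb : b = 204 := Nat.le_antisymm (Nat.le_of_lt_succ h2) h1
  subst hb; exact ⟨_, lblk_204⟩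
theorem lo_205_206 : ∀ b, 205 ≤ b → b < 206 → ∃ J, chkPBlk P 5 31 40 14080 b J = true := fun b h1 h2 => by
  have hb : b = 205 := Nat.le_antisymm (Nat.le_of_lt_succ h2) h1
  subst hb; exact ⟨_, lblk_205⟩
theorem lo_204_206 : ∀ b, 204 ≤ b → b < 206 → ∃ J, chkPBlk P 5 31 40 14080 b J = true := fun b h1 h2 =>
  if h : b < 205 then lo_204_205 b h1 h else lo_205_206 b (Nat.le_of_not_lt h) h2
theorem lo_203_206 : ∀ b, 203 ≤ b → b < 206 → ∃ J, chkPBlk P 5 31 40 14080 b J = true := fun b h1 h2 =>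
  if h : b < 204 then lo_203_204 b h1 h else lo_204_206 b (Nat.le_of_not_lt h) h2
theorem lo_206_207 : ∀ b, 206 ≤ b → b < 207 → ∃ J, chkPBlk P 5 31 40 14080 b J = true := fun b h1 h2 => by
  have hb : b = 206 := Nat.le_antisymm (Nat.le_of_lt_succ h2) h1
  subst hb; exact ⟨_, lblk_206⟩
theorem lo_207_208 : ∀ b, 207 ≤ b → b < 208 → ∃ J, chkPBlk P 5 31 40 14080 b J = true := fun b h1 h2 => by
  have hb : b = 207 := Nat.le_antisymm (Nat.le_of_lt_succ h2) h1
  subst hb; exact ⟨_, lblk_207⟩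
theorem lo_208_209 : ∀ b, 208 ≤ b → b < 209 → ∃ J, chkPBlk P 5 31 40 14080 b J = true := fun b h1 h2 => by
  have hb : b = 208 := Nat.le_antisymm (Nat.le_of_lt_succ h2) h1
  subst hb; exact ⟨_, lblk_208⟩
theorem lo_207_209 : ∀ b, 207 ≤ b → b < 209 → ∃ J, chkPBlk P 5 31 40 14080 b J = true := fun b h1 h2 =>
  if h : b < 208 then lo_207_208 b h1 h else lo_208_209 b (Nat.le_of_not_lt h) h2
theorem lo_206_209 : ∀ b, 206 ≤ b → b < 209 → ∃ J, chkPBlk P 5 31 40 14080 b J = true := fun b h1 h2 =>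
  if h : b < 207 then lo_206_207 b h1 h else lo_207_209 b (Nat.le_of_not_lt h) h2
theorem lo_203_209 : ∀ b, 203 ≤ b → b < 209 → ∃ J, chkPBlk P 5 31 40 14080 b J = true := fun b h1 h2 =>
  if h : b < 206 then lo_203_206 b h1 h else lo_206_209 b (Nat.le_of_not_lt h) h2
theorem lo_198_209 : ∀ b, 198 ≤ b → b < 209 → ∃ J, chkPBlk P 5 31 40 14080 b J = true := fun b h1 h2 =>
  if h : b < 203 then lo_198_203 b h1 h else lo_203_209 b (Nat.le_of_not_lt h) h2
theorem lo_209_210 : ∀ b, 209 ≤ b → b < 210 → ∃ J, chkPBlk P 5 31 40 14080 b J = true := fun b h1 h2 => by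
  have hb : b = 209 := Nat.le_antisymm (Nat.le_of_lt_succ h2) h1
  subst hb; exact ⟨_, lblk_209⟩
theorem lo_210_211 : ∀ b, 210 ≤ b → b < 211 → ∃ J, chkPBlk P 5 31 40 14080 b J = true := fun b h1 h2 => by
  have hb : b = 210 := Nat.le_antisymm (Nat.le_of_lt_succ h2) h1
  subst hb; exact ⟨_, lblk_210⟩
theorem lo_209_211 : ∀ b, 209 ≤ b → b < 211 → ∃ J, chkPBlk P 5 31 40 14080 b J = true := fun b h1 h2 =>
  if h : b < 210 then lo_209_210 b h1 h else lo_210_211 b (Nat.le_of_not_lt h) h2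
theorem lo_211_212 : ∀ b, 211 ≤ b → b < 212 → ∃ J, chkPBlk P 5 31 40 14080 b J = true := fun b h1 h2 => by
  have hb : b = 211 := Nat.le_antisymm (Nat.le_of_lt_succ h2) h1
  subst hb; exact ⟨_, lblk_211⟩
theorem lo_212_213 : ∀ b, 212 ≤ b → b < 213 → ∃ J, chkPBlk P 5 31 40 14080 b J = true := fun b h1 h2 => by
  have hb : b = 212 := Nat.le_antisymm (Nat.le_of_lt_succ h2) h1
  subst hb; exact ⟨_, lblk_212⟩
theorem lo_213_214 : ∀ b, 213 ≤ b → b < 214 → ∃ J, chkPBlk P 5 31 40 14080 b J = true := fun b h1 h2 => by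
  have hb : b = 213 := Nat.le_antisymm (Nat.le_of_lt_succ h2) h1
  subst hb; exact ⟨_, lblk_213⟩
theorem lo_212_214 : ∀ b, 212 ≤ b → b < 214 → ∃ J, chkPBlk P 5 31 40 14080 b J = true := fun b h1 h2 =>
  if h : b < 213 then lo_212_213 b h1 h else lo_213_214 b (Nat.le_of_not_lt h) h2
theorem lo_211_214 : ∀ b, 211 ≤ b → b < 214 → ∃ J, chkPBlk P 5 31 40 14080 b J = true := fun b h1 h2 =>
  if h : b < 212 then lo_211_212 b h1 h else lo_212_214 b (Nat.le_of_not_lt h) h2
theorem lo_209_214 : ∀ b, 209 ≤ b → b < 214 → ∃ J, chkPBlk P 5 31 40 14080 b J = true := fun b h1 h2 =>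
  if h : b < 211 then lo_209_211 b h1 h else lo_211_214 b (Nat.le_of_not_lt h) h2
theorem lo_214_215 : ∀ b, 214 ≤ b → b < 215 → ∃ J, chkPBlk P 5 31 40 14080 b J = true := fun b h1 h2 => by
  have hb : b = 214 := Nat.le_antisymm (Nat.le_of_lt_succ h2) h1
  subst hb; exact ⟨_, lblk_214⟩
theorem lo_215_216 : ∀ b, 215 ≤ b → b < 216 → ∃ J, chkPBlk P 5 31 40 14080 b J = true := fun b h1 h2 => by
  have hb : b = 215 := Nat.le_antisymm (Nat.le_of_lt_succ h2) h1
  subst hb; exact ⟨_, lblk_215⟩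
theorem lo_216_217 : ∀ b, 216 ≤ b → b < 217 → ∃ J, chkPBlk P 5 31 40 14080 b J = true := fun b h1 h2 => by
  have hb : b = 216 := Nat.le_antisymm (Nat.le_of_lt_succ h2) h1
  subst hb; exact ⟨_, lblk_216⟩
theorem lo_215_217 : ∀ b, 215 ≤ b → b < 217 → ∃ J, chkPBlk P 5 31 40 14080 b J = true := fun b h1 h2 =>
  if h : b < 216 then lo_215_216 b h1 h else lo_216_217 b (Nat.le_of_not_lt h) h2
theorem lo_214_217 : ∀ b, 214 ≤ b → b < 217 → ∃ J, chkPBlk P 5 31 40 14080 b J = true := fun b h1 h2 =>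
  if h : b < 215 then lo_214_215 b h1 h else lo_215_217 b (Nat.le_of_not_lt h) h2
theorem lo_217_218 : ∀ b, 217 ≤ b → b < 218 → ∃ J, chkPBlk P 5 31 40 14080 b J = true := fun b h1 h2 => by
  have hb : b = 217 := Nat.le_antisymm (Nat.le_of_lt_succ h2) h1
  subst hb; exact ⟨_, lblk_217⟩
theorem lo_218_219 : ∀ b, 218 ≤ b → b < 219 → ∃ J, chkPBlk P 5 31 40 14080 b J = true := fun b h1 h2 => by
  have hb : b = 218 := Nat.le_antisymm (Nat.le_of_lt_succ h2) h1
  subst hb; exact ⟨_, lblk_218⟩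
theorem lo_219_220 : ∀ b, 219 ≤ b → b < 220 → ∃ J, chkPBlk P 5 31 40 14080 b J = true := fun b h1 h2 => by
  have hb : b = 219 := Nat.le_antisymm (Nat.le_of_lt_succ h2) h1
  subst hb; exact ⟨_, lblk_219⟩
theorem lo_218_220 : ∀ b, 218 ≤ b → b < 220 → ∃ J, chkPBlk P 5 31 40 14080 b J = true := fun b h1 h2 =>
  if h : b < 219 then lo_218_219 b h1 h else lo_219_220 b (Nat.le_of_not_lt h) h2
theorem lo_217_220 : ∀ b, 217 ≤ b → b < 220 → ∃ J, chkPBlk P 5 31 40 14080 b J = true := fun b h1 h2 =>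
  if h : b < 218 then lo_217_218 b h1 h else lo_218_220 b (Nat.le_of_not_lt h) h2
theorem lo_214_220 : ∀ b, 214 ≤ b → b < 220 → ∃ J, chkPBlk P 5 31 40 14080 b J = true := fun b h1 h2 =>
  if h : b < 217 then lo_214_217 b h1 h else lo_217_220 b (Nat.le_of_not_lt h) h2
theorem lo_209_220 : ∀ b, 209 ≤ b → b < 220 → ∃ J, chkPBlk P 5 31 40 14080 b J = true := fun b h1 h2 =>
  if h : b < 214 then lo_209_214 b h1 h else lo_214_220 b (Nat.le_of_not_lt h) h2
theorem lo_198_220 : ∀ b, 198 ≤ b → b < 220 → ∃ J, chkPBlk P 5 31 40 14080 b J = true := fun b h1 h2 =>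
  if h : b < 209 then lo_198_209 b h1 h else lo_209_220 b (Nat.le_of_not_lt h) h2
theorem lo_176_220 : ∀ b, 176 ≤ b → b < 220 → ∃ J, chkPBlk P 5 31 40 14080 b J = true := fun b h1 h2 =>
  if h : b < 198 then lo_176_198 b h1 h else lo_198_220 b (Nat.le_of_not_lt h) h2
theorem lo_220_221 : ∀ b, 220 ≤ b → b < 221 → ∃ J, chkPBlk P 5 31 40 14080 b J = true := fun b h1 h2 => by
  have hb : b = 220 := Nat.le_antisymm (Nat.le_of_lt_succ h2) h1
  subst hb; exact ⟨_, lblk_220⟩
theorem lo_221_222 : ∀ b, 221 ≤ b → b < 222 → ∃ J, chkPBlk P 5 31 40 14080 b J = true := fun b h1 h2 => by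
  have hb : b = 221 := Nat.le_antisymm (Nat.le_of_lt_succ h2) h1
  subst hb; exact ⟨_, lblk_221⟩
theorem lo_220_222 : ∀ b, 220 ≤ b → b < 222 → ∃ J, chkPBlk P 5 31 40 14080 b J = true := fun b h1 h2 =>
  if h : b < 221 then lo_220_221 b h1 h else lo_221_222 b (Nat.le_of_not_lt h) h2
theorem lo_222_223 : ∀ b, 222 ≤ b → b < 223 → ∃ J, chkPBlk P 5 31 40 14080 b J = true := fun b h1 h2 => by
  have hb : b = 222 := Nat.le_antisymm (Nat.le_of_lt_succ h2) h1
  subst hb; exact ⟨_, lblk_222⟩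
theorem lo_223_224 : ∀ b, 223 ≤ b → b < 224 → ∃ J, chkPBlk P 5 31 40 14080 b J = true := fun b h1 h2 => by
  have hb : b = 223 := Nat.le_antisymm (Nat.le_of_lt_succ h2) h1
  subst hb; exact ⟨_, lblk_223⟩
theorem lo_224_225 : ∀ b, 224 ≤ b → b < 225 → ∃ J, chkPBlk P 5 31 40 14080 b J = true := fun b h1 h2 => by
  have hb : b = 224 := Nat.le_antisymm (Nat.le_of_lt_succ h2) h1
  subst hb; exact ⟨_, lblk_224⟩
theorem lo_223_225 : ∀ b, 223 ≤ b → b < 225 → ∃ J, chkPBlk P 5 31 40 14080 b J = true := fun b h1 h2 =>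
  if h : b < 224 then lo_223_224 b h1 h else lo_224_225 b (Nat.le_of_not_lt h) h2
theorem lo_222_225 : ∀ b, 222 ≤ b → b < 225 → ∃ J, chkPBlk P 5 31 40 14080 b J = true := fun b h1 h2 =>
  if h : b < 223 then lo_222_223 b h1 h else lo_223_225 b (Nat.le_of_not_lt h) h2
theorem lo_220_225 : ∀ b, 220 ≤ b → b < 225 → ∃ J, chkPBlk P 5 31 40 14080 b J = true := fun b h1 h2 =>
  if h : b < 222 then lo_220_222 b h1 h else lo_222_225 b (Nat.le_of_not_lt h) h2
theorem lo_225_226 : ∀ b, 225 ≤ b → b < 226 → ∃ J, chkPBlk P 5 31 40 14080 b J = true := fun b h1 h2 => by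
  have hb : b = 225 := Nat.le_antisymm (Nat.le_of_lt_succ h2) h1
  subst hb; exact ⟨_, lblk_225⟩
theorem lo_226_227 : ∀ b, 226 ≤ b → b < 227 → ∃ J, chkPBlk P 5 31 40 14080 b J = true := fun b h1 h2 => by
  have hb : b = 226 := Nat.le_antisymm (Nat.le_of_lt_succ h2) h1
  subst hb; exact ⟨_, lblk_226⟩
theorem lo_227_228 : ∀ b, 227 ≤ b → b < 228 → ∃ J, chkPBlk P 5 31 40 14080 b J = true := fun b h1 h2 => by
  have hb : b = 227 := Nat.le_antisymm (Nat.le_of_lt_succ h2) h1
  subst hb; exact ⟨_, lblk_227⟩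
theorem lo_226_228 : ∀ b, 226 ≤ b → b < 228 → ∃ J, chkPBlk P 5 31 40 14080 b J = true := fun b h1 h2 =>
  if h : b < 227 then lo_226_227 b h1 h else lo_227_228 b (Nat.le_of_not_lt h) h2
theorem lo_225_228 : ∀ b, 225 ≤ b → b < 228 → ∃ J, chkPBlk P 5 31 40 14080 b J = true := fun b h1 h2 =>
  if h : b < 226 then lo_225_226 b h1 h else lo_226_228 b (Nat.le_of_not_lt h) h2
theorem lo_228_229 : ∀ b, 228 ≤ b → b < 229 → ∃ J, chkPBlk P 5 31 40 14080 b J = true := fun b h1 h2 => by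
  have hb : b = 228 := Nat.le_antisymm (Nat.le_of_lt_succ h2) h1
  subst hb; exact ⟨_, lblk_228⟩
theorem lo_229_230 : ∀ b, 229 ≤ b → b < 230 → ∃ J, chkPBlk P 5 31 40 14080 b J = true := fun b h1 h2 => by
  have hb : b = 229 := Nat.le_antisymm (Nat.le_of_lt_succ h2) h1
  subst hb; exact ⟨_, lblk_229⟩
theorem lo_230_231 : ∀ b, 230 ≤ b → b < 231 → ∃ J, chkPBlk P 5 31 40 14080 b J = true := fun b h1 h2 => by
  have hb : b = 230 := Nat.le_antisymm (Nat.le_of_lt_succ h2) h1
  subst hb; exact ⟨_, lblk_230⟩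
theorem lo_229_231 : ∀ b, 229 ≤ b → b < 231 → ∃ J, chkPBlk P 5 31 40 14080 b J = true := fun b h1 h2 =>
  if h : b < 230 then lo_229_230 b h1 h else lo_230_231 b (Nat.le_of_not_lt h) h2
theorem lo_228_231 : ∀ b, 228 ≤ b → b < 231 → ∃ J, chkPBlk P 5 31 40 14080 b J = true := fun b h1 h2 =>
  if h : b < 229 then lo_228_229 b h1 h else lo_229_231 b (Nat.le_of_not_lt h) h2
theorem lo_225_231 : ∀ b, 225 ≤ b → b < 231 → ∃ J, chkPBlk P 5 31 40 14080 b J = true := fun b h1 h2 =>
  if h : b < 228 then lo_225_228 b h1 h else lo_228_231 b (Nat.le_of_not_lt h) h2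
theorem lo_220_231 : ∀ b, 220 ≤ b → b < 231 → ∃ J, chkPBlk P 5 31 40 14080 b J = true := fun b h1 h2 =>
  if h : b < 225 then lo_220_225 b h1 h else lo_225_231 b (Nat.le_of_not_lt h) h2
theorem lo_231_232 : ∀ b, 231 ≤ b → b < 232 → ∃ J, chkPBlk P 5 31 40 14080 b J = true := fun b h1 h2 => by
  have hb : b = 231 := Nat.le_antisymm (Nat.le_of_lt_succ h2) h1
  subst hb; exact ⟨_, lblk_231⟩
theorem lo_232_233 : ∀ b, 232 ≤ b → b < 233 → ∃ J, chkPBlk P 5 31 40 14080 b J = true := fun b h1 h2 => by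
  have hb : b = 232 := Nat.le_antisymm (Nat.le_of_lt_succ h2) h1
  subst hb; exact ⟨_, lblk_232⟩
theorem lo_231_233 : ∀ b, 231 ≤ b → b < 233 → ∃ J, chkPBlk P 5 31 40 14080 b J = true := fun b h1 h2 =>
  if h : b < 232 then lo_231_232 b h1 h else lo_232_233 b (Nat.le_of_not_lt h) h2
theorem lo_233_234 : ∀ b, 233 ≤ b → b < 234 → ∃ J, chkPBlk P 5 31 40 14080 b J = true := fun b h1 h2 => by
  have hb : b = 233 := Nat.le_antisymm (Nat.le_of_lt_succ h2) h1
  subst hb; exact ⟨_, lblk_233⟩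
theorem lo_234_235 : ∀ b, 234 ≤ b → b < 235 → ∃ J, chkPBlk P 5 31 40 14080 b J = true := fun b h1 h2 => by
  have hb : b = 234 := Nat.le_antisymm (Nat.le_of_lt_succ h2) h1
  subst hb; exact ⟨_, lblk_234⟩
theorem lo_235_236 : ∀ b, 235 ≤ b → b < 236 → ∃ J, chkPBlk P 5 31 40 14080 b J = true := fun b h1 h2 => by
  have hb : b = 235 := Nat.le_antisymm (Nat.le_of_lt_succ h2) h1
  subst hb; exact ⟨_, lblk_235⟩
theorem lo_234_236 : ∀ b, 234 ≤ b → b < 236 → ∃ J, chkPBlk P 5 31 40 14080 b J = true := fun b h1 h2 =>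
  if h : b < 235 then lo_234_235 b h1 h else lo_235_236 b (Nat.le_of_not_lt h) h2
theorem lo_233_236 : ∀ b, 233 ≤ b → b < 236 → ∃ J, chkPBlk P 5 31 40 14080 b J = true := fun b h1 h2 =>
  if h : b < 234 then lo_233_234 b h1 h else lo_234_236 b (Nat.le_of_not_lt h) h2
theorem lo_231_236 : ∀ b, 231 ≤ b → b < 236 → ∃ J, chkPBlk P 5 31 40 14080 b J = true := fun b h1 h2 =>
  if h : b < 233 then lo_231_233 b h1 h else lo_233_236 b (Nat.le_of_not_lt h) h2
theorem lo_236_237 : ∀ b, 236 ≤ b → b < 237 → ∃ J, chkPBlk P 5 31 40 14080 b J = true := fun b h1 h2 => by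
  have hb : b = 236 := Nat.le_antisymm (Nat.le_of_lt_succ h2) h1
  subst hb; exact ⟨_, lblk_236⟩
theorem lo_237_238 : ∀ b, 237 ≤ b → b < 238 → ∃ J, chkPBlk P 5 31 40 14080 b J = true := fun b h1 h2 => by
  have hb : b = 237 := Nat.le_antisymm (Nat.le_of_lt_succ h2) h1
  subst hb; exact ⟨_, lblk_237⟩
theorem lo_238_239 : ∀ b, 238 ≤ b → b < 239 → ∃ J, chkPBlk P 5 31 40 14080 b J = true := fun b h1 h2 => by
  have hb : b = 238 := Nat.le_antisymm (Nat.le_of_lt_succ h2) h1
  subst hb; exact ⟨_, lblk_238⟩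
theorem lo_237_239 : ∀ b, 237 ≤ b → b < 239 → ∃ J, chkPBlk P 5 31 40 14080 b J = true := fun b h1 h2 =>
  if h : b < 238 then lo_237_238 b h1 h else lo_238_239 b (Nat.le_of_not_lt h) h2
theorem lo_236_239 : ∀ b, 236 ≤ b → b < 239 → ∃ J, chkPBlk P 5 31 40 14080 b J = true := fun b h1 h2 =>
  if h : b < 237 then lo_236_237 b h1 h else lo_237_239 b (Nat.le_of_not_lt h) h2
theorem lo_239_240 : ∀ b, 239 ≤ b → b < 240 → ∃ J, chkPBlk P 5 31 40 14080 b J = true := fun b h1 h2 => by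
  have hb : b = 239 := Nat.le_antisymm (Nat.le_of_lt_succ h2) h1
  subst hb; exact ⟨_, lblk_239⟩
theorem lo_240_241 : ∀ b, 240 ≤ b → b < 241 → ∃ J, chkPBlk P 5 31 40 14080 b J = true := fun b h1 h2 => by
  have hb : b = 240 := Nat.le_antisymm (Nat.le_of_lt_succ h2) h1
  subst hb; exact ⟨_, lblk_240⟩
theorem lo_241_242 : ∀ b, 241 ≤ b → b < 242 → ∃ J, chkPBlk P 5 31 40 14080 b J = true := fun b h1 h2 => by
  have hb : b = 241 := Nat.le_antisymm (Nat.le_of_lt_succ h2) h1
  subst hb; exact ⟨_, lblk_241⟩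
theorem lo_240_242 : ∀ b, 240 ≤ b → b < 242 → ∃ J, chkPBlk P 5 31 40 14080 b J = true := fun b h1 h2 =>
  if h : b < 241 then lo_240_241 b h1 h else lo_241_242 b (Nat.le_of_not_lt h) h2
theorem lo_239_242 : ∀ b, 239 ≤ b → b < 242 → ∃ J, chkPBlk P 5 31 40 14080 b J = true := fun b h1 h2 =>
  if h : b < 240 then lo_239_240 b h1 h else lo_240_242 b (Nat.le_of_not_lt h) h2
theorem lo_236_242 : ∀ b, 236 ≤ b → b < 242 → ∃ J, chkPBlk P 5 31 40 14080 b J = true := fun b h1 h2 =>
  if h : b < 239 then lo_236_239 b h1 h else lo_239_242 b (Nat.le_of_not_lt h) h2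
theorem lo_231_242 : ∀ b, 231 ≤ b → b < 242 → ∃ J, chkPBlk P 5 31 40 14080 b J = true := fun b h1 h2 =>
  if h : b < 236 then lo_231_236 b h1 h else lo_236_242 b (Nat.le_of_not_lt h) h2
theorem lo_220_242 : ∀ b, 220 ≤ b → b < 242 → ∃ J, chkPBlk P 5 31 40 14080 b J = true := fun b h1 h2 =>
  if h : b < 231 then lo_220_231 b h1 h else lo_231_242 b (Nat.le_of_not_lt h) h2
theorem lo_242_243 : ∀ b, 242 ≤ b → b < 243 → ∃ J, chkPBlk P 5 31 40 14080 b J = true := fun b h1 h2 => by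
  have hb : b = 242 := Nat.le_antisymm (Nat.le_of_lt_succ h2) h1
  subst hb; exact ⟨_, lblk_242⟩
theorem lo_243_244 : ∀ b, 243 ≤ b → b < 244 → ∃ J, chkPBlk P 5 31 40 14080 b J = true := fun b h1 h2 => by
  have hb : b = 243 := Nat.le_antisymm (Nat.le_of_lt_succ h2) h1
  subst hb; exact ⟨_, lblk_243⟩
theorem lo_242_244 : ∀ b, 242 ≤ b → b < 244 → ∃ J, chkPBlk P 5 31 40 14080 b J = true := fun b h1 h2 =>
  if h : b < 243 then lo_242_243 b h1 h else lo_243_244 b (Nat.le_of_not_lt h) h2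
theorem lo_244_245 : ∀ b, 244 ≤ b → b < 245 → ∃ J, chkPBlk P 5 31 40 14080 b J = true := fun b h1 h2 => by
  have hb : b = 244 := Nat.le_antisymm (Nat.le_of_lt_succ h2) h1
  subst hb; exact ⟨_, lblk_244⟩
theorem lo_245_246 : ∀ b, 245 ≤ b → b < 246 → ∃ J, chkPBlk P 5 31 40 14080 b J = true := fun b h1 h2 => by
  have hb : b = 245 := Nat.le_antisymm (Nat.le_of_lt_succ h2) h1
  subst hb; exact ⟨_, lblk_245⟩
theorem lo_246_247 : ∀ b, 246 ≤ b → b < 247 → ∃ J, chkPBlk P 5 31 40 14080 b J = true := fun b h1 h2 => by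
  have hb : b = 246 := Nat.le_antisymm (Nat.le_of_lt_succ h2) h1
  subst hb; exact ⟨_, lblk_246⟩
theorem lo_245_247 : ∀ b, 245 ≤ b → b < 247 → ∃ J, chkPBlk P 5 31 40 14080 b J = true := fun b h1 h2 =>
  if h : b < 246 then lo_245_246 b h1 h else lo_246_247 b (Nat.le_of_not_lt h) h2
theorem lo_244_247 : ∀ b, 244 ≤ b → b < 247 → ∃ J, chkPBlk P 5 31 40 14080 b J = true := fun b h1 h2 =>
  if h : b < 245 then lo_244_245 b h1 h else lo_245_247 b (Nat.le_of_not_lt h) h2
theorem lo_242_247 : ∀ b, 242 ≤ b → b < 247 → ∃ J, chkPBlk P 5 31 40 14080 b J = true := fun b h1 h2 =>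
  if h : b < 244 then lo_242_244 b h1 h else lo_244_247 b (Nat.le_of_not_lt h) h2
theorem lo_247_248 : ∀ b, 247 ≤ b → b < 248 → ∃ J, chkPBlk P 5 31 40 14080 b J = true := fun b h1 h2 => by
  have hb : b = 247 := Nat.le_antisymm (Nat.le_of_lt_succ h2) h1
  subst hb; exact ⟨_, lblk_247⟩
theorem lo_248_249 : ∀ b, 248 ≤ b → b < 249 → ∃ J, chkPBlk P 5 31 40 14080 b J = true := fun b h1 h2 => by
  have hb : b = 248 := Nat.le_antisymm (Nat.le_of_lt_succ h2) h1
  subst hb; exact ⟨_, lblk_248⟩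
theorem lo_249_250 : ∀ b, 249 ≤ b → b < 250 → ∃ J, chkPBlk P 5 31 40 14080 b J = true := fun b h1 h2 => by
  have hb : b = 249 := Nat.le_antisymm (Nat.le_of_lt_succ h2) h1
  subst hb; exact ⟨_, lblk_249⟩
theorem lo_248_250 : ∀ b, 248 ≤ b → b < 250 → ∃ J, chkPBlk P 5 31 40 14080 b J = true := fun b h1 h2 =>
  if h : b < 249 then lo_248_249 b h1 h else lo_249_250 b (Nat.le_of_not_lt h) h2
theorem lo_247_250 : ∀ b, 247 ≤ b → b < 250 → ∃ J, chkPBlk P 5 31 40 14080 b J = true := fun b h1 h2 =>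
  if h : b < 248 then lo_247_248 b h1 h else lo_248_250 b (Nat.le_of_not_lt h) h2
theorem lo_250_251 : ∀ b, 250 ≤ b → b < 251 → ∃ J, chkPBlk P 5 31 40 14080 b J = true := fun b h1 h2 => by
  have hb : b = 250 := Nat.le_antisymm (Nat.le_of_lt_succ h2) h1
  subst hb; exact ⟨_, lblk_250⟩
theorem lo_251_252 : ∀ b, 251 ≤ b → b < 252 → ∃ J, chkPBlk P 5 31 40 14080 b J = true := fun b h1 h2 => by
  have hb : b = 251 := Nat.le_antisymm (Nat.le_of_lt_succ h2) h1
  subst hb; exact ⟨_, lblk_251⟩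
theorem lo_252_253 : ∀ b, 252 ≤ b → b < 253 → ∃ J, chkPBlk P 5 31 40 14080 b J = true := fun b h1 h2 => by
  have hb : b = 252 := Nat.le_antisymm (Nat.le_of_lt_succ h2) h1
  subst hb; exact ⟨_, lblk_252⟩
theorem lo_251_253 : ∀ b, 251 ≤ b → b < 253 → ∃ J, chkPBlk P 5 31 40 14080 b J = true := fun b h1 h2 =>
  if h : b < 252 then lo_251_252 b h1 h else lo_252_253 b (Nat.le_of_not_lt h) h2
theorem lo_250_253 : ∀ b, 250 ≤ b → b < 253 → ∃ J, chkPBlk P 5 31 40 14080 b J = true := fun b h1 h2 =>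
  if h : b < 251 then lo_250_251 b h1 h else lo_251_253 b (Nat.le_of_not_lt h) h2
theorem lo_247_253 : ∀ b, 247 ≤ b → b < 253 → ∃ J, chkPBlk P 5 31 40 14080 b J = true := fun b h1 h2 =>
  if h : b < 250 then lo_247_250 b h1 h else lo_250_253 b (Nat.le_of_not_lt h) h2
theorem lo_242_253 : ∀ b, 242 ≤ b → b < 253 → ∃ J, chkPBlk P 5 31 40 14080 b J = true := fun b h1 h2 =>
  if h : b < 247 then lo_242_247 b h1 h else lo_247_253 b (Nat.le_of_not_lt h) h2
theorem lo_253_254 : ∀ b, 253 ≤ b → b < 254 → ∃ J, chkPBlk P 5 31 40 14080 b J = true := fun b h1 h2 => by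
  have hb : b = 253 := Nat.le_antisymm (Nat.le_of_lt_succ h2) h1
  subst hb; exact ⟨_, lblk_253⟩
theorem lo_254_255 : ∀ b, 254 ≤ b → b < 255 → ∃ J, chkPBlk P 5 31 40 14080 b J = true := fun b h1 h2 => by
  have hb : b = 254 := Nat.le_antisymm (Nat.le_of_lt_succ h2) h1
  subst hb; exact ⟨_, lblk_254⟩
theorem lo_253_255 : ∀ b, 253 ≤ b → b < 255 → ∃ J, chkPBlk P 5 31 40 14080 b J = true := fun b h1 h2 =>
  if h : b < 254 then lo_253_254 b h1 h else lo_254_255 b (Nat.le_of_not_lt h) h2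
theorem lo_255_256 : ∀ b, 255 ≤ b → b < 256 → ∃ J, chkPBlk P 5 31 40 14080 b J = true := fun b h1 h2 => by
  have hb : b = 255 := Nat.le_antisymm (Nat.le_of_lt_succ h2) h1
  subst hb; exact ⟨_, lblk_255⟩
theorem lo_256_257 : ∀ b, 256 ≤ b → b < 257 → ∃ J, chkPBlk P 5 31 40 14080 b J = true := fun b h1 h2 => by
  have hb : b = 256 := Nat.le_antisymm (Nat.le_of_lt_succ h2) h1
  subst hb; exact ⟨_, lblk_256⟩
theorem lo_257_258 : ∀ b, 257 ≤ b → b < 258 → ∃ J, chkPBlk P 5 31 40 14080 b J = true := fun b h1 h2 => by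
  have hb : b = 257 := Nat.le_antisymm (Nat.le_of_lt_succ h2) h1
  subst hb; exact ⟨_, lblk_257⟩
theorem lo_256_258 : ∀ b, 256 ≤ b → b < 258 → ∃ J, chkPBlk P 5 31 40 14080 b J = true := fun b h1 h2 =>
  if h : b < 257 then lo_256_257 b h1 h else lo_257_258 b (Nat.le_of_not_lt h) h2
theorem lo_255_258 : ∀ b, 255 ≤ b → b < 258 → ∃ J, chkPBlk P 5 31 40 14080 b J = true := fun b h1 h2 =>
  if h : b < 256 then lo_255_256 b h1 h else lo_256_258 b (Nat.le_of_not_lt h) h2
theorem lo_253_258 : ∀ b, 253 ≤ b → b < 258 → ∃ J, chkPBlk P 5 31 40 14080 b J = true := fun b h1 h2 =>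
  if h : b < 255 then lo_253_255 b h1 h else lo_255_258 b (Nat.le_of_not_lt h) h2
theorem lo_258_259 : ∀ b, 258 ≤ b → b < 259 → ∃ J, chkPBlk P 5 31 40 14080 b J = true := fun b h1 h2 => by
  have hb : b = 258 := Nat.le_antisymm (Nat.le_of_lt_succ h2) h1
  subst hb; exact ⟨_, lblk_258⟩
theorem lo_259_260 : ∀ b, 259 ≤ b → b < 260 → ∃ J, chkPBlk P 5 31 40 14080 b J = true := fun b h1 h2 => by
  have hb : b = 259 := Nat.le_antisymm (Nat.le_of_lt_succ h2) h1
  subst hb; exact ⟨_, lblk_259⟩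
theorem lo_260_261 : ∀ b, 260 ≤ b → b < 261 → ∃ J, chkPBlk P 5 31 40 14080 b J = true := fun b h1 h2 => by
  have hb : b = 260 := Nat.le_antisymm (Nat.le_of_lt_succ h2) h1
  subst hb; exact ⟨_, lblk_260⟩
theorem lo_259_261 : ∀ b, 259 ≤ b → b < 261 → ∃ J, chkPBlk P 5 31 40 14080 b J = true := fun b h1 h2 =>
  if h : b < 260 then lo_259_260 b h1 h else lo_260_261 b (Nat.le_of_not_lt h) h2
theorem lo_258_261 : ∀ b, 258 ≤ b → b < 261 → ∃ J, chkPBlk P 5 31 40 14080 b J = true := fun b h1 h2 =>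
  if h : b < 259 then lo_258_259 b h1 h else lo_259_261 b (Nat.le_of_not_lt h) h2
theorem lo_261_262 : ∀ b, 261 ≤ b → b < 262 → ∃ J, chkPBlk P 5 31 40 14080 b J = true := fun b h1 h2 => by
  have hb : b = 261 := Nat.le_antisymm (Nat.le_of_lt_succ h2) h1
  subst hb; exact ⟨_, lblk_261⟩
theorem lo_262_263 : ∀ b, 262 ≤ b → b < 263 → ∃ J, chkPBlk P 5 31 40 14080 b J = true := fun b h1 h2 => by
  have hb : b = 262 := Nat.le_antisymm (Nat.le_of_lt_succ h2) h1
  subst hb; exact ⟨_, lblk_262⟩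
theorem lo_263_264 : ∀ b, 263 ≤ b → b < 264 → ∃ J, chkPBlk P 5 31 40 14080 b J = true := fun b h1 h2 => by
  have hb : b = 263 := Nat.le_antisymm (Nat.le_of_lt_succ h2) h1
  subst hb; exact ⟨_, lblk_263⟩
theorem lo_262_264 : ∀ b, 262 ≤ b → b < 264 → ∃ J, chkPBlk P 5 31 40 14080 b J = true := fun b h1 h2 =>
  if h : b < 263 then lo_262_263 b h1 h else lo_263_264 b (Nat.le_of_not_lt h) h2
theorem lo_261_264 : ∀ b, 261 ≤ b → b < 264 → ∃ J, chkPBlk P 5 31 40 14080 b J = true := fun b h1 h2 =>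
  if h : b < 262 then lo_261_262 b h1 h else lo_262_264 b (Nat.le_of_not_lt h) h2
theorem lo_258_264 : ∀ b, 258 ≤ b → b < 264 → ∃ J, chkPBlk P 5 31 40 14080 b J = true := fun b h1 h2 =>
  if h : b < 261 then lo_258_261 b h1 h else lo_261_264 b (Nat.le_of_not_lt h) h2
theorem lo_253_264 : ∀ b, 253 ≤ b → b < 264 → ∃ J, chkPBlk P 5 31 40 14080 b J = true := fun b h1 h2 =>
  if h : b < 258 then lo_253_258 b h1 h else lo_258_264 b (Nat.le_of_not_lt h) h2
theorem lo_242_264 : ∀ b, 242 ≤ b → b < 264 → ∃ J, chkPBlk P 5 31 40 14080 b J = true := fun b h1 h2 =>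
  if h : b < 253 then lo_242_253 b h1 h else lo_253_264 b (Nat.le_of_not_lt h) h2
theorem lo_220_264 : ∀ b, 220 ≤ b → b < 264 → ∃ J, chkPBlk P 5 31 40 14080 b J = true := fun b h1 h2 =>
  if h : b < 242 then lo_220_242 b h1 h else lo_242_264 b (Nat.le_of_not_lt h) h2
theorem lo_176_264 : ∀ b, 176 ≤ b → b < 264 → ∃ J, chkPBlk P 5 31 40 14080 b J = true := fun b h1 h2 =>
  if h : b < 220 then lo_176_220 b h1 h else lo_220_264 b (Nat.le_of_not_lt h) h2

end Cfsg.Agent.Lib.Helper29.S1685
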