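import Cfsg.Agent.Lib.Helper29.S1685.Data

set_option autoImplicit false
set_option Elab.async false

namespace Cfsg.Agent.Lib.Helper29.S1685

open Cfsg.Agent.Lib.Helper29.TcTrace Cfsg.Agent.Lib.Helper29.TcCert Cfsg.Agent.Lib.Helper29.TcPerm

theorem lblk_264 : chkPBlk P 5 31 40 14080 264 0x39d07220e6218e531ca628cc5190a40884231ca628ca420867 = true := by decide +kernel
theorem lblk_265 : chkPBlk P 5 31 40 14080 265 0x19ce718c24088422902410ce410ce319d083a0e528c8129068 = true := by decide +kernel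
theorem lblk_266 : chkPBlk P 5 31 40 14080 266 0x19ca518c85190222044628c8520482194812086410ce410c67 = true := by decide +kernel
theorem lblk_267 : chkPBlk P 5 31 40 14080 267 0x1104328c813a0e621ca131ca628ca4208c5214812088219ce3 = true := by decide +kernel
theorem lblk_268 : chkPBlk P 5 31 40 14080 268 0x204821948120867410433904338d07314642902410ce521064 = true := by decide +kernel
theorem lblk_269 : chkPBlk P 5 31 40 14080 269 0x314a318c840902231ca5198a32148120867314642902410ce5 = true := by decide +kernel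
theorem lblk_270 : chkPBlk P 5 31 40 14080 270 0x28ca40904331482314852048219d052048219d083988729ca3 = true := by decide +kernel
theorem lblk_271 : chkPBlk P 5 31 40 14080 271 0x190a321481290241104410c814086341ce641cc441cc431ca6 = true := by decide +kernel
theorem lblk_272 : chkPBlk P 5 31 40 14080 272 0x29027398a321481208a410c822908219022210422946429025 = true := by decide +kernel
theorem lblk_273 : chkPBlk P 5 31 40 14080 273 0x90432902410c4319064098a321481208672902410c8220865 = true := by decide +kernel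
theorem lblk_274 : chkPBlk P 5 31 40 14080 274 0x2104320882190462902410ce318cc5314852048219cc5190a4 = true := by decide +kernel
theorem lblk_275 : chkPBlk P 5 31 40 14080 275 0x1948120867208632086719ce8390e728c64314642902410ce5 = true := by decide +kernel
theorem lblk_276 : chkPBlk P 5 31 40 14080 276 0x210222044231ca5198a32148120867314642902410ce520482 = true := by decide +kernel
theorem lblk_277 : chkPBlk P 5 31 40 14080 277 0x3a0672a0e7320e6220e6218e839887288e519ca319464204a3 = true := by decide +kernel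
theorem lblk_278 : chkPBlk P 5 31 40 14080 278 0x298a329086290c5190a40904329082190432902410c8219c67 = true := by decide +kernel
theorem lblk_279 : chkPBlk P 5 31 40 14080 279 0x19d073990731107310a6394a328c8839886394c51948120cc7 = true := by decide +kernel
theorem lblk_280 : chkPBlk P 5 31 40 14080 280 0x90821904319ce3314642902410ca409043208821a10739462 = true := by decide +kernel
theorem lblk_281 : chkPBlk P 5 31 40 14080 281 0x39c8728ce5198e528cc5190a40904628c85204822902410ca4 = true := by decide +kernel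
theorem lblk_282 : chkPBlk P 5 31 40 14080 282 0x290a42908228c6731107310c7298a329026298a42902520482 = true := by decide +kernel
theorem lblk_283 : chkPBlk P 5 31 40 14080 283 0x28c852048219ca4090432902410c82418e5298a42902410cc5 = true := by decide +kernel
theorem lblk_284 : chkPBlk P 5 31 40 14080 284 0x31ca6394a3314642902410cc5298a3214812086628c8521046 = true := by decide +kernel
theorem lblk_285 : chkPBlk P 5 31 40 14080 285 0x218a4314c521481208e628c85204823990421cc428c6341cc4 = true := by decide +kernel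
theorem lblk_286 : chkPBlk P 5 31 40 14080 286 0x28c852146429025204621206729cc839cc839886298a321481 = true := by decide +kernel
theorem lblk_287 : chkPBlk P 5 31 40 14080 287 0x31464290241148521ca321ca328ca4094812086520482190a3 = true := by decide +kernel
theorem lblk_288 : chkPBlk P 5 31 40 14080 288 0x31ca5198a321481208c5190a42084718cc528cc5190a409043 = true := by decide +kernel
theorem lblk_289 : chkPBlk P 5 31 40 14080 289 0x2902410cc529082290a420866290a4208e6314c5190a409043 = true := by decide +kernel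
theorem lblk_290 : chkPBlk P 5 31 40 14080 290 0x214812086520482208a40904320867420e439c66394a331464 = true := by decide +kernel
theorem lblk_291 : chkPBlk P 5 31 40 14080 291 0x394a33146429024198e528cc5190a4090433146429024118a3 = true := by decide +kernel
theorem lblk_292 : chkPBlk P 5 31 40 14080 292 0x320e7321073990721d0721d0721ce518ce518c683988639446 = true := by decide +kernel
theorem lblk_293 : chkPBlk P 5 31 40 14080 293 0x21481218a5210a4218a321481208a42086410c623a0672a0e7 = true := by decide +kernel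
theorem lblk_294 : chkPBlk P 5 31 40 14080 294 0x394a341ce641cc431ca628c85220e6218a6294c531ca5198a3 = true := by decide +kernel
theorem lblk_295 : chkPBlk P 5 31 40 14080 295 0x29024118a3214841148521048390e110d033950731cc441cc4 = true := by decide +kernel
theorem lblk_296 : chkPBlk P 5 31 40 14080 296 0x204c7294c52902628c852104628c852908521082398e5298a4 = true := by decide +kernel
theorem lblk_297 : chkPBlk P 5 31 40 14080 297 0x39886298a3218c53148628c852048439cc431ca62946628c85 = true := by decide +kernel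
theorem lblk_298 : chkPBlk P 5 31 40 14080 298 0x21481208a40a0e6318a628c8520482318a6298a52106541ce6 = true := by decide +kernel
theorem lblk_299 : chkPBlk P 5 31 40 14080 299 0x3148520482314a6294862946628c8520482198a321484118a3 = true := by decide +kernel
theorem lblk_300 : chkPBlk P 5 31 40 14080 300 0x214812988839cc839887310c7298e528cc5190a4090c4318a5 = true := by decide +kernel
theorem lblk_301 : chkPBlk P 5 31 40 14080 301 0x388e5420672a0e7318c5298a3214c5318a628c85218a5198a3 = true := by decide +kernel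
theorem lblk_302 : chkPBlk P 5 31 40 14080 302 0x3146429026298a7208a5190a42902519481188e519465190a4 = true := by decide +kernel
theorem lblk_303 : chkPBlk P 5 31 40 14080 303 0x31ca531464290c5298a521ce631446394a33146429024118a5 = true := by decide +kernel
theorem lblk_304 : chkPBlk P 5 31 40 14080 304 0x29024318a5218a629487314c519486314a33146429082398c5 = true := by decide +kernel
theorem lblk_305 : chkPBlk P 5 31 40 14080 305 0x21485218a321481208a4090433a10741cc431ca6394a331464 = true := by decide +kernel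
theorem lblk_306 : chkPBlk P 5 31 40 14080 306 0x294c5190a409046394a33146429026394a33146429024118a3 = true := by decide +kernel
theorem lblk_307 : chkPBlk P 5 31 40 14080 307 0x21ce839cc8398872a0e6218e5118e528cc5190a441cc4314c7 = true := by decide +kernel
theorem lblk_308 : chkPBlk P 5 31 40 14080 308 0x31465210a4208814086740ce840ce819ca83a107420e841d07 = true := by decide +kernel
theorem lblk_309 : chkPBlk P 5 31 40 14080 309 0x3188631907310c7298a5198a4298c5298a531ca5198a321481 = true := by decide +kernel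
theorem lblk_310 : chkPBlk P 5 31 40 14080 310 0x298a521c2211d05194e62110819ca839cc839886394a62a0e7 = true := by decide +kernel
theorem lblk_311 : chkPBlk P 5 31 40 14080 311 0x298a5218e5298c5298a329487318c53146429026394a629486 = true := by decide +kernel
theorem lblk_312 : chkPBlk P 5 31 40 14080 312 0x218a5318a62946628c8731cc4318a6294c5190e6218c6298e5 = true := by decide +kernel
theorem lblk_313 : chkPBlk P 5 31 40 14080 313 0x314a3314642902629107318a5198a321481318c62a06729cc6 = true := by decide +kernel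
theorem lblk_314 : chkPBlk P 5 31 40 14080 314 0x214c6218c531485204c6318a6314c5298a321481118a5314a4 = true := by decide +kernel
theorem lblk_315 : chkPBlk P 5 31 40 14080 315 0x198a3318a231ca5198a3220e541cc731cc439886288c5298a3 = true := by decide +kernel
theorem lblk_316 : chkPBlk P 5 31 40 14080 316 0x298a3218c439465190a321c45189033a0e5318c7294c6318a5 = true := by decide +kernel
theorem lblk_317 : chkPBlk P 5 31 40 14080 317 0x398c6394a331466318c5198a7318e531ca5198a321486318e5 = true := by decide +kernel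
theorem lblk_318 : chkPBlk P 5 31 40 14080 318 0x2946628c85318a3318c51a0c6394c5310c5118a5198a3290e6 = true := by decide +kernel
theorem lblk_319 : chkPBlk P 5 31 40 14080 319 0x298a6298e528cc5190a4098a321483420e7320e641cc6394c7 = true := by decide +kernel
theorem lblk_320 : chkPBlk P 5 31 40 14080 320 0x198a32148839886298e5298a3220e6218a6394a628c85218e5 = true := by decide +kernel
theorem lblk_321 : chkPBlk P 5 31 40 14080 321 0x32067320e7320e641cc431ca231ca5198a839cc641cc631ca5 = true := by decide +kernel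
theorem lblk_322 : chkPBlk P 5 31 40 14080 322 0x3146531465214e11a043409034086740d081a0e8420672a0e7 = true := by decide +kernel
theorem lblk_323 : chkPBlk P 5 31 40 14080 323 0x19ca641ce639886218a6298c631907310c7288c729466290c5 = true := by decide +kernel
theorem lblk_324 : chkPBlk P 5 31 40 14080 324 0x318a531464398c6314c63146110ca240ce841ca839cc7318c8 = true := by decide +kernel
theorem lblk_325 : chkPBlk P 5 31 40 14080 325 0x318c4314c528ce6318c6294e631cc6318a7318c631ca631467 = true := by decide +kernel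
theorem lblk_326 : chkPBlk P 5 31 40 14080 326 0x28cc5218c631466314c528cc5190c5418c5118a53146430cc6 = true := by decide +kernel
theorem lblk_327 : chkPBlk P 5 31 40 14080 327 0x318e5118e528d07398c5310c6394a3314c6314c5190c6318c5 = true := by decide +kernel
theorem lblk_328 : chkPBlk P 5 31 40 14080 328 0x39446394a331467318c7294643946728c47318c431446298a7 = true := by decide +kernel
theorem lblk_329 : chkPBlk P 5 31 40 14080 329 0x298a8398c6310a6218a231ca628ce7310c5314c531ce639886 = true := by decide +kernel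
theorem lblk_330 : chkPBlk P 5 31 40 14080 330 0x31ca5198a3218a53146819d0741d07320e6218e5118e528cc6 = true := by decide +kernel
theorem lblk_331 : chkPBlk P 5 31 40 14080 331 0x398c8398c6394a341ce631cc631ca5198a341cc631907310c5 = true := by decide +kernel
theorem lblk_332 : chkPBlk P 5 31 40 14080 332 0x420e83a0e7320e6214e6218a64206741d07310c531ca5198a8 = true := by decide +kernel
theorem lblk_333 : chkPBlk P 5 31 40 14080 333 0x29886298c5314c7404474050708d0240868120674206742067 = true := by decide +kernel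
theorem lblk_334 : chkPBlk P 5 31 40 14080 334 0x294e631441121073886819ca7318c641ce6398853988639446 = true := by decide +kernel
theorem lblk_335 : chkPBlk P 5 31 40 14080 335 0x314c6314c528cc6298c6394a331886218a631cc739886298c6 = true := by decide +kernel
theorem lblk_336 : chkPBlk P 5 31 40 14080 336 0x314e6310a6218e7314e6218e5318e6218a631ca519886288c5 = true := by decide +kernel
theorem lblk_337 : chkPBlk P 5 31 40 14080 337 0x3188541cc4314e7318862188739cc7310e539886288c539cc4 = true := by decide +kernel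
theorem lblk_338 : chkPBlk P 5 31 40 14080 338 0x314a3310c628d0841d0739907310e539886394c431107298c4 = true := by decide +kernel
theorem lblk_339 : chkPBlk P 5 31 40 14080 339 0x310c72990839cc43150339ce6314c72a0e839cc6220e6218e5 = true := by decide +kernel
theorem lblk_340 : chkPBlk P 5 31 40 14080 340 0x10d0240d0440d08420e541ce6310e7318881206841ce631107 = true := by decide +kernel
theorem lblk_341 : chkPBlk P 5 31 40 14080 341 0x204421a103394e731887398e621ca631886218e809d0111c28 = true := by decide +kernel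
theorem lblk_342 : chkPBlk P 5 31 40 14080 342 0x310e631cc6298c4298c431886288c7318a5318c439cc6218c6 = true := by decide +kernel
theorem lblk_343 : chkPBlk P 5 31 40 14080 343 0x31887298c6394e731cc439cc6214c439cc6214c6218e639cc7 = true := by decide +kernel
theorem lblk_344 : chkPBlk P 5 31 40 14080 344 0x31cc4318a63110841ca839cc7310e731cc431905314c6220e7 = true := by decide +kernel
theorem lblk_345 : chkPBlk P 5 31 40 14080 345 0x31d0140908394c839cc731107398c410ce63990840ce5320e7 = true := by decide +kernel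
theorem lblk_346 : chkPBlk P 5 31 40 14080 346 0x3184240ce7298e539cc7310a631c2740502420883a107298e5 = true := by decide +kernel
theorem lblk_347 : chkPBlk P 5 31 40 14080 347 0x394e731ca6310c7298a629ca7398e6298c4318c429cc5298e5 = true := by decide +kernel
theorem lblk_348 : chkPBlk P 5 31 40 14080 348 0x2a10729ce6314c83a10729ce6394e7314a529908394c7294a7 = true := by decide +kernel
theorem lblk_349 : chkPBlk P 5 31 40 14080 349 0x394e7314a740505420e5394e80a0e5420e539cc72984712067 = true := by decide +kernel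
theorem lblk_350 : chkPBlk P 5 31 40 14080 350 0x39ca7394a8394e729ca629ca539ca5314a6310a72944819ca7 = true := by decide +kernel
theorem lblk_351 : chkPBlk P 5 31 40 14080 351 0x29d07120e839d0729ca5308e72a10841ce5394481a0e729508 = true := by decide +kernel
theorem lo_264_265 : ∀ b, 264 ≤ b → b < 265 → ∃ J, chkPBlk P 5 31 40 14080 b J = true := fun b h1 h2 => by
  have hb : b = 264 := Nat.le_antisymm (Nat.le_of_lt_succ h2) h1
  subst hb; exact ⟨_, lblk_264⟩
theorem lo_265_266 : ∀ b, 265 ≤ b → b < 266 → ∃ J, chkPBlk P 5 31 40 14080 b J = true := fun b h1 h2 => by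
  have hb : b = 265 := Nat.le_antisymm (Nat.le_of_lt_succ h2) h1
  subst hb; exact ⟨_, lblk_265⟩
theorem lo_264_266 : ∀ b, 264 ≤ b → b < 266 → ∃ J, chkPBlk P 5 31 40 14080 b J = true := fun b h1 h2 =>
  if h : b < 265 then lo_264_265 b h1 h else lo_265_266 b (Nat.le_of_not_lt h) h2
theorem lo_266_267 : ∀ b, 266 ≤ b → b < 267 → ∃ J, chkPBlk P 5 31 40 14080 b J = true := fun b h1 h2 => by
  have hb : b = 266 := Nat.le_antisymm (Nat.le_of_lt_succ h2) h1
  subst hb; exact ⟨_, lblk_266⟩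
theorem lo_267_268 : ∀ b, 267 ≤ b → b < 268 → ∃ J, chkPBlk P 5 31 40 14080 b J = true := fun b h1 h2 => by
  have hb : b = 267 := Nat.le_antisymm (Nat.le_of_lt_succ h2) h1
  subst hb; exact ⟨_, lblk_267⟩
theorem lo_268_269 : ∀ b, 268 ≤ b → b < 269 → ∃ J, chkPBlk P 5 31 40 14080 b J = true := fun b h1 h2 => by
  have hb : b = 268 := Nat.le_antisymm (Nat.le_of_lt_succ h2) h1
  subst hb; exact ⟨_, lblk_268⟩
theorem lo_267_269 : ∀ b, 267 ≤ b → b < 269 → ∃ J, chkPBlk P 5 31 40 14080 b J = true := fun b h1 h2 =>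
  if h : b < 268 then lo_267_268 b h1 h else lo_268_269 b (Nat.le_of_not_lt h) h2
theorem lo_266_269 : ∀ b, 266 ≤ b → b < 269 → ∃ J, chkPBlk P 5 31 40 14080 b J = true := fun b h1 h2 =>
  if h : b < 267 then lo_266_267 b h1 h else lo_267_269 b (Nat.le_of_not_lt h) h2
theorem lo_264_269 : ∀ b, 264 ≤ b → b < 269 → ∃ J, chkPBlk P 5 31 40 14080 b J = true := fun b h1 h2 =>
  if h : b < 266 then lo_264_266 b h1 h else lo_266_269 b (Nat.le_of_not_lt h) h2
theorem lo_269_270 : ∀ b, 269 ≤ b → b < 270 → ∃ J, chkPBlk P 5 31 40 14080 b J = true := fun b h1 h2 => by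
  have hb : b = 269 := Nat.le_antisymm (Nat.le_of_lt_succ h2) h1
  subst hb; exact ⟨_, lblk_269⟩
theorem lo_270_271 : ∀ b, 270 ≤ b → b < 271 → ∃ J, chkPBlk P 5 31 40 14080 b J = true := fun b h1 h2 => by
  have hb : b = 270 := Nat.le_antisymm (Nat.le_of_lt_succ h2) h1
  subst hb; exact ⟨_, lblk_270⟩
theorem lo_271_272 : ∀ b, 271 ≤ b → b < 272 → ∃ J, chkPBlk P 5 31 40 14080 b J = true := fun b h1 h2 => by
  have hb : b = 271 := Nat.le_antisymm (Nat.le_of_lt_succ h2) h1
  subst hb; exact ⟨_, lblk_271⟩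
theorem lo_270_272 : ∀ b, 270 ≤ b → b < 272 → ∃ J, chkPBlk P 5 31 40 14080 b J = true := fun b h1 h2 =>
  if h : b < 271 then lo_270_271 b h1 h else lo_271_272 b (Nat.le_of_not_lt h) h2
theorem lo_269_272 : ∀ b, 269 ≤ b → b < 272 → ∃ J, chkPBlk P 5 31 40 14080 b J = true := fun b h1 h2 =>
  if h : b < 270 then lo_269_270 b h1 h else lo_270_272 b (Nat.le_of_not_lt h) h2
theorem lo_272_273 : ∀ b, 272 ≤ b → b < 273 → ∃ J, chkPBlk P 5 31 40 14080 b J = true := fun b h1 h2 => by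
  have hb : b = 272 := Nat.le_antisymm (Nat.le_of_lt_succ h2) h1
  subst hb; exact ⟨_, lblk_272⟩
theorem lo_273_274 : ∀ b, 273 ≤ b → b < 274 → ∃ J, chkPBlk P 5 31 40 14080 b J = true := fun b h1 h2 => by
  have hb : b = 273 := Nat.le_antisymm (Nat.le_of_lt_succ h2) h1
  subst hb; exact ⟨_, lblk_273⟩
theorem lo_274_275 : ∀ b, 274 ≤ b → b < 275 → ∃ J, chkPBlk P 5 31 40 14080 b J = true := fun b h1 h2 => by
  have hb : b = 274 := Nat.le_antisymm (Nat.le_of_lt_succ h2) h1
  subst hb; exact ⟨_, lblk_274⟩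
theorem lo_273_275 : ∀ b, 273 ≤ b → b < 275 → ∃ J, chkPBlk P 5 31 40 14080 b J = true := fun b h1 h2 =>
  if h : b < 274 then lo_273_274 b h1 h else lo_274_275 b (Nat.le_of_not_lt h) h2
theorem lo_272_275 : ∀ b, 272 ≤ b → b < 275 → ∃ J, chkPBlk P 5 31 40 14080 b J = true := fun b h1 h2 =>
  if h : b < 273 then lo_272_273 b h1 h else lo_273_275 b (Nat.le_of_not_lt h) h2
theorem lo_269_275 : ∀ b, 269 ≤ b → b < 275 → ∃ J, chkPBlk P 5 31 40 14080 b J = true := fun b h1 h2 =>
  if h : b < 272 then lo_269_272 b h1 h else lo_272_275 b (Nat.le_of_not_lt h) h2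
theorem lo_264_275 : ∀ b, 264 ≤ b → b < 275 → ∃ J, chkPBlk P 5 31 40 14080 b J = true := fun b h1 h2 =>
  if h : b < 269 then lo_264_269 b h1 h else lo_269_275 b (Nat.le_of_not_lt h) h2
theorem lo_275_276 : ∀ b, 275 ≤ b → b < 276 → ∃ J, chkPBlk P 5 31 40 14080 b J = true := fun b h1 h2 => by
  have hb : b = 275 := Nat.le_antisymm (Nat.le_of_lt_succ h2) h1
  subst hb; exact ⟨_, lblk_275⟩
theorem lo_276_277 : ∀ b, 276 ≤ b → b < 277 → ∃ J, chkPBlk P 5 31 40 14080 b J = true := fun b h1 h2 => by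
  have hb : b = 276 := Nat.le_antisymm (Nat.le_of_lt_succ h2) h1
  subst hb; exact ⟨_, lblk_276⟩
theorem lo_275_277 : ∀ b, 275 ≤ b → b < 277 → ∃ J, chkPBlk P 5 31 40 14080 b J = true := fun b h1 h2 =>
  if h : b < 276 then lo_275_276 b h1 h else lo_276_277 b (Nat.le_of_not_lt h) h2
theorem lo_277_278 : ∀ b, 277 ≤ b → b < 278 → ∃ J, chkPBlk P 5 31 40 14080 b J = true := fun b h1 h2 => by
  have hb : b = 277 := Nat.le_antisymm (Nat.le_of_lt_succ h2) h1
  subst hb; exact ⟨_, lblk_277⟩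
theorem lo_278_279 : ∀ b, 278 ≤ b → b < 279 → ∃ J, chkPBlk P 5 31 40 14080 b J = true := fun b h1 h2 => by
  have hb : b = 278 := Nat.le_antisymm (Nat.le_of_lt_succ h2) h1
  subst hb; exact ⟨_, lblk_278⟩
theorem lo_279_280 : ∀ b, 279 ≤ b → b < 280 → ∃ J, chkPBlk P 5 31 40 14080 b J = true := fun b h1 h2 => by
  have hb : b = 279 := Nat.le_antisymm (Nat.le_of_lt_succ h2) h1
  subst hb; exact ⟨_, lblk_279⟩
theorem lo_278_280 : ∀ b, 278 ≤ b → b < 280 → ∃ J, chkPBlk P 5 31 40 14080 b J = true := fun b h1 h2 =>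
  if h : b < 279 then lo_278_279 b h1 h else lo_279_280 b (Nat.le_of_not_lt h) h2
theorem lo_277_280 : ∀ b, 277 ≤ b → b < 280 → ∃ J, chkPBlk P 5 31 40 14080 b J = true := fun b h1 h2 =>
  if h : b < 278 then lo_277_278 b h1 h else lo_278_280 b (Nat.le_of_not_lt h) h2
theorem lo_275_280 : ∀ b, 275 ≤ b → b < 280 → ∃ J, chkPBlk P 5 31 40 14080 b J = true := fun b h1 h2 =>
  if h : b < 277 then lo_275_277 b h1 h else lo_277_280 b (Nat.le_of_not_lt h) h2
theorem lo_280_281 : ∀ b, 280 ≤ b → b < 281 → ∃ J, chkPBlk P 5 31 40 14080 b J = true := fun b h1 h2 => by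
  have hb : b = 280 := Nat.le_antisymm (Nat.le_of_lt_succ h2) h1
  subst hb; exact ⟨_, lblk_280⟩
theorem lo_281_282 : ∀ b, 281 ≤ b → b < 282 → ∃ J, chkPBlk P 5 31 40 14080 b J = true := fun b h1 h2 => by
  have hb : b = 281 := Nat.le_antisymm (Nat.le_of_lt_succ h2) h1
  subst hb; exact ⟨_, lblk_281⟩
theorem lo_282_283 : ∀ b, 282 ≤ b → b < 283 → ∃ J, chkPBlk P 5 31 40 14080 b J = true := fun b h1 h2 => by
  have hb : b = 282 := Nat.le_antisymm (Nat.le_of_lt_succ h2) h1
  subst hb; exact ⟨_, lblk_282⟩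
theorem lo_281_283 : ∀ b, 281 ≤ b → b < 283 → ∃ J, chkPBlk P 5 31 40 14080 b J = true := fun b h1 h2 =>
  if h : b < 282 then lo_281_282 b h1 h else lo_282_283 b (Nat.le_of_not_lt h) h2
theorem lo_280_283 : ∀ b, 280 ≤ b → b < 283 → ∃ J, chkPBlk P 5 31 40 14080 b J = true := fun b h1 h2 =>
  if h : b < 281 then lo_280_281 b h1 h else lo_281_283 b (Nat.le_of_not_lt h) h2
theorem lo_283_284 : ∀ b, 283 ≤ b → b < 284 → ∃ J, chkPBlk P 5 31 40 14080 b J = true := fun b h1 h2 => by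
  have hb : b = 283 := Nat.le_antisymm (Nat.le_of_lt_succ h2) h1
  subst hb; exact ⟨_, lblk_283⟩
theorem lo_284_285 : ∀ b, 284 ≤ b → b < 285 → ∃ J, chkPBlk P 5 31 40 14080 b J = true := fun b h1 h2 => by
  have hb : b = 284 := Nat.le_antisymm (Nat.le_of_lt_succ h2) h1
  subst hb; exact ⟨_, lblk_284⟩
theorem lo_285_286 : ∀ b, 285 ≤ b → b < 286 → ∃ J, chkPBlk P 5 31 40 14080 b J = true := fun b h1 h2 => by
  have hb : b = 285 := Nat.le_antisymm (Nat.le_of_lt_succ h2) h1
  subst hb; exact ⟨_, lblk_285⟩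
theorem lo_284_286 : ∀ b, 284 ≤ b → b < 286 → ∃ J, chkPBlk P 5 31 40 14080 b J = true := fun b h1 h2 =>
  if h : b < 285 then lo_284_285 b h1 h else lo_285_286 b (Nat.le_of_not_lt h) h2
theorem lo_283_286 : ∀ b, 283 ≤ b → b < 286 → ∃ J, chkPBlk P 5 31 40 14080 b J = true := fun b h1 h2 =>
  if h : b < 284 then lo_283_284 b h1 h else lo_284_286 b (Nat.le_of_not_lt h) h2
theorem lo_280_286 : ∀ b, 280 ≤ b → b < 286 → ∃ J, chkPBlk P 5 31 40 14080 b J = true := fun b h1 h2 =>
  if h : b < 283 then lo_280_283 b h1 h else lo_283_286 b (Nat.le_of_not_lt h) h2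
theorem lo_275_286 : ∀ b, 275 ≤ b → b < 286 → ∃ J, chkPBlk P 5 31 40 14080 b J = true := fun b h1 h2 =>
  if h : b < 280 then lo_275_280 b h1 h else lo_280_286 b (Nat.le_of_not_lt h) h2
theorem lo_264_286 : ∀ b, 264 ≤ b → b < 286 → ∃ J, chkPBlk P 5 31 40 14080 b J = true := fun b h1 h2 =>
  if h : b < 275 then lo_264_275 b h1 h else lo_275_286 b (Nat.le_of_not_lt h) h2
theorem lo_286_287 : ∀ b, 286 ≤ b → b < 287 → ∃ J, chkPBlk P 5 31 40 14080 b J = true := fun b h1 h2 => by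
  have hb : b = 286 := Nat.le_antisymm (Nat.le_of_lt_succ h2) h1
  subst hb; exact ⟨_, lblk_286⟩
theorem lo_287_288 : ∀ b, 287 ≤ b → b < 288 → ∃ J, chkPBlk P 5 31 40 14080 b J = true := fun b h1 h2 => by
  have hb : b = 287 := Nat.le_antisymm (Nat.le_of_lt_succ h2) h1
  subst hb; exact ⟨_, lblk_287⟩
theorem lo_286_288 : ∀ b, 286 ≤ b → b < 288 → ∃ J, chkPBlk P 5 31 40 14080 b J = true := fun b h1 h2 =>
  if h : b < 287 then lo_286_287 b h1 h else lo_287_288 b (Nat.le_of_not_lt h) h2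
theorem lo_288_289 : ∀ b, 288 ≤ b → b < 289 → ∃ J, chkPBlk P 5 31 40 14080 b J = true := fun b h1 h2 => by
  have hb : b = 288 := Nat.le_antisymm (Nat.le_of_lt_succ h2) h1
  subst hb; exact ⟨_, lblk_288⟩
theorem lo_289_290 : ∀ b, 289 ≤ b → b < 290 → ∃ J, chkPBlk P 5 31 40 14080 b J = true := fun b h1 h2 => by
  have hb : b = 289 := Nat.le_antisymm (Nat.le_of_lt_succ h2) h1
  subst hb; exact ⟨_, lblk_289⟩
theorem lo_290_291 : ∀ b, 290 ≤ b → b < 291 → ∃ J, chkPBlk P 5 31 40 14080 b J = true := fun b h1 h2 => by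
  have hb : b = 290 := Nat.le_antisymm (Nat.le_of_lt_succ h2) h1
  subst hb; exact ⟨_, lblk_290⟩
theorem lo_289_291 : ∀ b, 289 ≤ b → b < 291 → ∃ J, chkPBlk P 5 31 40 14080 b J = true := fun b h1 h2 =>
  if h : b < 290 then lo_289_290 b h1 h else lo_290_291 b (Nat.le_of_not_lt h) h2
theorem lo_288_291 : ∀ b, 288 ≤ b → b < 291 → ∃ J, chkPBlk P 5 31 40 14080 b J = true := fun b h1 h2 =>
  if h : b < 289 then lo_288_289 b h1 h else lo_289_291 b (Nat.le_of_not_lt h) h2
theorem lo_286_291 : ∀ b, 286 ≤ b → b < 291 → ∃ J, chkPBlk P 5 31 40 14080 b J = true := fun b h1 h2 =>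
  if h : b < 288 then lo_286_288 b h1 h else lo_288_291 b (Nat.le_of_not_lt h) h2
theorem lo_291_292 : ∀ b, 291 ≤ b → b < 292 → ∃ J, chkPBlk P 5 31 40 14080 b J = true := fun b h1 h2 => by
  have hb : b = 291 := Nat.le_antisymm (Nat.le_of_lt_succ h2) h1
  subst hb; exact ⟨_, lblk_291⟩
theorem lo_292_293 : ∀ b, 292 ≤ b → b < 293 → ∃ J, chkPBlk P 5 31 40 14080 b J = true := fun b h1 h2 => by
  have hb : b = 292 := Nat.le_antisymm (Nat.le_of_lt_succ h2) h1
  subst hb; exact ⟨_, lblk_292⟩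
theorem lo_293_294 : ∀ b, 293 ≤ b → b < 294 → ∃ J, chkPBlk P 5 31 40 14080 b J = true := fun b h1 h2 => by
  have hb : b = 293 := Nat.le_antisymm (Nat.le_of_lt_succ h2) h1
  subst hb; exact ⟨_, lblk_293⟩
theorem lo_292_294 : ∀ b, 292 ≤ b → b < 294 → ∃ J, chkPBlk P 5 31 40 14080 b J = true := fun b h1 h2 =>
  if h : b < 293 then lo_292_293 b h1 h else lo_293_294 b (Nat.le_of_not_lt h) h2
theorem lo_291_294 : ∀ b, 291 ≤ b → b < 294 → ∃ J, chkPBlk P 5 31 40 14080 b J = true := fun b h1 h2 =>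
  if h : b < 292 then lo_291_292 b h1 h else lo_292_294 b (Nat.le_of_not_lt h) h2
theorem lo_294_295 : ∀ b, 294 ≤ b → b < 295 → ∃ J, chkPBlk P 5 31 40 14080 b J = true := fun b h1 h2 => by
  have hb : b = 294 := Nat.le_antisymm (Nat.le_of_lt_succ h2) h1
  subst hb; exact ⟨_, lblk_294⟩
theorem lo_295_296 : ∀ b, 295 ≤ b → b < 296 → ∃ J, chkPBlk P 5 31 40 14080 b J = true := fun b h1 h2 => by
  have hb : b = 295 := Nat.le_antisymm (Nat.le_of_lt_succ h2) h1
  subst hb; exact ⟨_, lblk_295⟩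
theorem lo_296_297 : ∀ b, 296 ≤ b → b < 297 → ∃ J, chkPBlk P 5 31 40 14080 b J = true := fun b h1 h2 => by
  have hb : b = 296 := Nat.le_antisymm (Nat.le_of_lt_succ h2) h1
  subst hb; exact ⟨_, lblk_296⟩
theorem lo_295_297 : ∀ b, 295 ≤ b → b < 297 → ∃ J, chkPBlk P 5 31 40 14080 b J = true := fun b h1 h2 =>
  if h : b < 296 then lo_295_296 b h1 h else lo_296_297 b (Nat.le_of_not_lt h) h2
theorem lo_294_297 : ∀ b, 294 ≤ b → b < 297 → ∃ J, chkPBlk P 5 31 40 14080 b J = true := fun b h1 h2 =>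
  if h : b < 295 then lo_294_295 b h1 h else lo_295_297 b (Nat.le_of_not_lt h) h2
theorem lo_291_297 : ∀ b, 291 ≤ b → b < 297 → ∃ J, chkPBlk P 5 31 40 14080 b J = true := fun b h1 h2 =>
  if h : b < 294 then lo_291_294 b h1 h else lo_294_297 b (Nat.le_of_not_lt h) h2
theorem lo_286_297 : ∀ b, 286 ≤ b → b < 297 → ∃ J, chkPBlk P 5 31 40 14080 b J = true := fun b h1 h2 =>
  if h : b < 291 then lo_286_291 b h1 h else lo_291_297 b (Nat.le_of_not_lt h) h2
theorem lo_297_298 : ∀ b, 297 ≤ b → b < 298 → ∃ J, chkPBlk P 5 31 40 14080 b J = true := fun b h1 h2 => by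
  have hb : b = 297 := Nat.le_antisymm (Nat.le_of_lt_succ h2) h1
  subst hb; exact ⟨_, lblk_297⟩
theorem lo_298_299 : ∀ b, 298 ≤ b → b < 299 → ∃ J, chkPBlk P 5 31 40 14080 b J = true := fun b h1 h2 => by
  have hb : b = 298 := Nat.le_antisymm (Nat.le_of_lt_succ h2) h1
  subst hb; exact ⟨_, lblk_298⟩
theorem lo_297_299 : ∀ b, 297 ≤ b → b < 299 → ∃ J, chkPBlk P 5 31 40 14080 b J = true := fun b h1 h2 =>
  if h : b < 298 then lo_297_298 b h1 h else lo_298_299 b (Nat.le_of_not_lt h) h2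
theorem lo_299_300 : ∀ b, 299 ≤ b → b < 300 → ∃ J, chkPBlk P 5 31 40 14080 b J = true := fun b h1 h2 => by
  have hb : b = 299 := Nat.le_antisymm (Nat.le_of_lt_succ h2) h1
  subst hb; exact ⟨_, lblk_299⟩
theorem lo_300_301 : ∀ b, 300 ≤ b → b < 301 → ∃ J, chkPBlk P 5 31 40 14080 b J = true := fun b h1 h2 => by
  have hb : b = 300 := Nat.le_antisymm (Nat.le_of_lt_succ h2) h1
  subst hb; exact ⟨_, lblk_300⟩
theorem lo_301_302 : ∀ b, 301 ≤ b → b < 302 → ∃ J, chkPBlk P 5 31 40 14080 b J = true := fun b h1 h2 => by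
  have hb : b = 301 := Nat.le_antisymm (Nat.le_of_lt_succ h2) h1
  subst hb; exact ⟨_, lblk_301⟩
theorem lo_300_302 : ∀ b, 300 ≤ b → b < 302 → ∃ J, chkPBlk P 5 31 40 14080 b J = true := fun b h1 h2 =>
  if h : b < 301 then lo_300_301 b h1 h else lo_301_302 b (Nat.le_of_not_lt h) h2
theorem lo_299_302 : ∀ b, 299 ≤ b → b < 302 → ∃ J, chkPBlk P 5 31 40 14080 b J = true := fun b h1 h2 =>
  if h : b < 300 then lo_299_300 b h1 h else lo_300_302 b (Nat.le_of_not_lt h) h2
theorem lo_297_302 : ∀ b, 297 ≤ b → b < 302 → ∃ J, chkPBlk P 5 31 40 14080 b J = true := fun b h1 h2 =>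
  if h : b < 299 then lo_297_299 b h1 h else lo_299_302 b (Nat.le_of_not_lt h) h2
theorem lo_302_303 : ∀ b, 302 ≤ b → b < 303 → ∃ J, chkPBlk P 5 31 40 14080 b J = true := fun b h1 h2 => by
  have hb : b = 302 := Nat.le_antisymm (Nat.le_of_lt_succ h2) h1
  subst hb; exact ⟨_, lblk_302⟩
theorem lo_303_304 : ∀ b, 303 ≤ b → b < 304 → ∃ J, chkPBlk P 5 31 40 14080 b J = true := fun b h1 h2 => by
  have hb : b = 303 := Nat.le_antisymm (Nat.le_of_lt_succ h2) h1
  subst hb; exact ⟨_, lblk_303⟩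
theorem lo_304_305 : ∀ b, 304 ≤ b → b < 305 → ∃ J, chkPBlk P 5 31 40 14080 b J = true := fun b h1 h2 => by
  have hb : b = 304 := Nat.le_antisymm (Nat.le_of_lt_succ h2) h1
  subst hb; exact ⟨_, lblk_304⟩
theorem lo_303_305 : ∀ b, 303 ≤ b → b < 305 → ∃ J, chkPBlk P 5 31 40 14080 b J = true := fun b h1 h2 =>
  if h : b < 304 then lo_303_304 b h1 h else lo_304_305 b (Nat.le_of_not_lt h) h2
theorem lo_302_305 : ∀ b, 302 ≤ b → b < 305 → ∃ J, chkPBlk P 5 31 40 14080 b J = true := fun b h1 h2 =>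
  if h : b < 303 then lo_302_303 b h1 h else lo_303_305 b (Nat.le_of_not_lt h) h2
theorem lo_305_306 : ∀ b, 305 ≤ b → b < 306 → ∃ J, chkPBlk P 5 31 40 14080 b J = true := fun b h1 h2 => by
  have hb : b = 305 := Nat.le_antisymm (Nat.le_of_lt_succ h2) h1
  subst hb; exact ⟨_, lblk_305⟩
theorem lo_306_307 : ∀ b, 306 ≤ b → b < 307 → ∃ J, chkPBlk P 5 31 40 14080 b J = true := fun b h1 h2 => by
  have hb : b = 306 := Nat.le_antisymm (Nat.le_of_lt_succ h2) h1
  subst hb; exact ⟨_, lblk_306⟩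
theorem lo_307_308 : ∀ b, 307 ≤ b → b < 308 → ∃ J, chkPBlk P 5 31 40 14080 b J = true := fun b h1 h2 => by
  have hb : b = 307 := Nat.le_antisymm (Nat.le_of_lt_succ h2) h1
  subst hb; exact ⟨_, lblk_307⟩
theorem lo_306_308 : ∀ b, 306 ≤ b → b < 308 → ∃ J, chkPBlk P 5 31 40 14080 b J = true := fun b h1 h2 =>
  if h : b < 307 then lo_306_307 b h1 h else lo_307_308 b (Nat.le_of_not_lt h) h2
theorem lo_305_308 : ∀ b, 305 ≤ b → b < 308 → ∃ J, chkPBlk P 5 31 40 14080 b J = true := fun b h1 h2 =>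
  if h : b < 306 then lo_305_306 b h1 h else lo_306_308 b (Nat.le_of_not_lt h) h2
theorem lo_302_308 : ∀ b, 302 ≤ b → b < 308 → ∃ J, chkPBlk P 5 31 40 14080 b J = true := fun b h1 h2 =>
  if h : b < 305 then lo_302_305 b h1 h else lo_305_308 b (Nat.le_of_not_lt h) h2
theorem lo_297_308 : ∀ b, 297 ≤ b → b < 308 → ∃ J, chkPBlk P 5 31 40 14080 b J = true := fun b h1 h2 =>
  if h : b < 302 then lo_297_302 b h1 h else lo_302_308 b (Nat.le_of_not_lt h) h2
theorem lo_286_308 : ∀ b, 286 ≤ b → b < 308 → ∃ J, chkPBlk P 5 31 40 14080 b J = true := fun b h1 h2 =>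
  if h : b < 297 then lo_286_297 b h1 h else lo_297_308 b (Nat.le_of_not_lt h) h2
theorem lo_264_308 : ∀ b, 264 ≤ b → b < 308 → ∃ J, chkPBlk P 5 31 40 14080 b J = true := fun b h1 h2 =>
  if h : b < 286 then lo_264_286 b h1 h else lo_286_308 b (Nat.le_of_not_lt h) h2
theorem lo_308_309 : ∀ b, 308 ≤ b → b < 309 → ∃ J, chkPBlk P 5 31 40 14080 b J = true := fun b h1 h2 => by
  have hb : b = 308 := Nat.le_antisymm (Nat.le_of_lt_succ h2) h1
  subst hb; exact ⟨_, lblk_308⟩
theorem lo_309_310 : ∀ b, 309 ≤ b → b < 310 → ∃ J, chkPBlk P 5 31 40 14080 b J = true := fun b h1 h2 => by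
  have hb : b = 309 := Nat.le_antisymm (Nat.le_of_lt_succ h2) h1
  subst hb; exact ⟨_, lblk_309⟩
theorem lo_308_310 : ∀ b, 308 ≤ b → b < 310 → ∃ J, chkPBlk P 5 31 40 14080 b J = true := fun b h1 h2 =>
  if h : b < 309 then lo_308_309 b h1 h else lo_309_310 b (Nat.le_of_not_lt h) h2
theorem lo_310_311 : ∀ b, 310 ≤ b → b < 311 → ∃ J, chkPBlk P 5 31 40 14080 b J = true := fun b h1 h2 => by
  have hb : b = 310 := Nat.le_antisymm (Nat.le_of_lt_succ h2) h1
  subst hb; exact ⟨_, lblk_310⟩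
theorem lo_311_312 : ∀ b, 311 ≤ b → b < 312 → ∃ J, chkPBlk P 5 31 40 14080 b J = true := fun b h1 h2 => by
  have hb : b = 311 := Nat.le_antisymm (Nat.le_of_lt_succ h2) h1
  subst hb; exact ⟨_, lblk_311⟩
theorem lo_312_313 : ∀ b, 312 ≤ b → b < 313 → ∃ J, chkPBlk P 5 31 40 14080 b J = true := fun b h1 h2 => by
  have hb : b = 312 := Nat.le_antisymm (Nat.le_of_lt_succ h2) h1
  subst hb; exact ⟨_, lblk_312⟩
theorem lo_311_313 : ∀ b, 311 ≤ b → b < 313 → ∃ J, chkPBlk P 5 31 40 14080 b J = true := fun b h1 h2 =>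
  if h : b < 312 then lo_311_312 b h1 h else lo_312_313 b (Nat.le_of_not_lt h) h2
theorem lo_310_313 : ∀ b, 310 ≤ b → b < 313 → ∃ J, chkPBlk P 5 31 40 14080 b J = true := fun b h1 h2 =>
  if h : b < 311 then lo_310_311 b h1 h else lo_311_313 b (Nat.le_of_not_lt h) h2
theorem lo_308_313 : ∀ b, 308 ≤ b → b < 313 → ∃ J, chkPBlk P 5 31 40 14080 b J = true := fun b h1 h2 =>
  if h : b < 310 then lo_308_310 b h1 h else lo_310_313 b (Nat.le_of_not_lt h) h2
theorem lo_313_314 : ∀ b, 313 ≤ b → b < 314 → ∃ J, chkPBlk P 5 31 40 14080 b J = true := fun b h1 h2 => by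
  have hb : b = 313 := Nat.le_antisymm (Nat.le_of_lt_succ h2) h1
  subst hb; exact ⟨_, lblk_313⟩
theorem lo_314_315 : ∀ b, 314 ≤ b → b < 315 → ∃ J, chkPBlk P 5 31 40 14080 b J = true := fun b h1 h2 => by
  have hb : b = 314 := Nat.le_antisymm (Nat.le_of_lt_succ h2) h1
  subst hb; exact ⟨_, lblk_314⟩
theorem lo_315_316 : ∀ b, 315 ≤ b → b < 316 → ∃ J, chkPBlk P 5 31 40 14080 b J = true := fun b h1 h2 => by
  have hb : b = 315 := Nat.le_antisymm (Nat.le_of_lt_succ h2) h1
  subst hb; exact ⟨_, lblk_315⟩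
theorem lo_314_316 : ∀ b, 314 ≤ b → b < 316 → ∃ J, chkPBlk P 5 31 40 14080 b J = true := fun b h1 h2 =>
  if h : b < 315 then lo_314_315 b h1 h else lo_315_316 b (Nat.le_of_not_lt h) h2
theorem lo_313_316 : ∀ b, 313 ≤ b → b < 316 → ∃ J, chkPBlk P 5 31 40 14080 b J = true := fun b h1 h2 =>
  if h : b < 314 then lo_313_314 b h1 h else lo_314_316 b (Nat.le_of_not_lt h) h2
theorem lo_316_317 : ∀ b, 316 ≤ b → b < 317 → ∃ J, chkPBlk P 5 31 40 14080 b J = true := fun b h1 h2 => by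
  have hb : b = 316 := Nat.le_antisymm (Nat.le_of_lt_succ h2) h1
  subst hb; exact ⟨_, lblk_316⟩
theorem lo_317_318 : ∀ b, 317 ≤ b → b < 318 → ∃ J, chkPBlk P 5 31 40 14080 b J = true := fun b h1 h2 => by
  have hb : b = 317 := Nat.le_antisymm (Nat.le_of_lt_succ h2) h1
  subst hb; exact ⟨_, lblk_317⟩
theorem lo_318_319 : ∀ b, 318 ≤ b → b < 319 → ∃ J, chkPBlk P 5 31 40 14080 b J = true := fun b h1 h2 => by
  have hb : b = 318 := Nat.le_antisymm (Nat.le_of_lt_succ h2) h1
  subst hb; exact ⟨_, lblk_318⟩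
theorem lo_317_319 : ∀ b, 317 ≤ b → b < 319 → ∃ J, chkPBlk P 5 31 40 14080 b J = true := fun b h1 h2 =>
  if h : b < 318 then lo_317_318 b h1 h else lo_318_319 b (Nat.le_of_not_lt h) h2
theorem lo_316_319 : ∀ b, 316 ≤ b → b < 319 → ∃ J, chkPBlk P 5 31 40 14080 b J = true := fun b h1 h2 =>
  if h : b < 317 then lo_316_317 b h1 h else lo_317_319 b (Nat.le_of_not_lt h) h2
theorem lo_313_319 : ∀ b, 313 ≤ b → b < 319 → ∃ J, chkPBlk P 5 31 40 14080 b J = true := fun b h1 h2 =>
  if h : b < 316 then lo_313_316 b h1 h else lo_316_319 b (Nat.le_of_not_lt h) h2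
theorem lo_308_319 : ∀ b, 308 ≤ b → b < 319 → ∃ J, chkPBlk P 5 31 40 14080 b J = true := fun b h1 h2 =>
  if h : b < 313 then lo_308_313 b h1 h else lo_313_319 b (Nat.le_of_not_lt h) h2
theorem lo_319_320 : ∀ b, 319 ≤ b → b < 320 → ∃ J, chkPBlk P 5 31 40 14080 b J = true := fun b h1 h2 => by
  have hb : b = 319 := Nat.le_antisymm (Nat.le_of_lt_succ h2) h1
  subst hb; exact ⟨_, lblk_319⟩
theorem lo_320_321 : ∀ b, 320 ≤ b → b < 321 → ∃ J, chkPBlk P 5 31 40 14080 b J = true := fun b h1 h2 => by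
  have hb : b = 320 := Nat.le_antisymm (Nat.le_of_lt_succ h2) h1
  subst hb; exact ⟨_, lblk_320⟩
theorem lo_319_321 : ∀ b, 319 ≤ b → b < 321 → ∃ J, chkPBlk P 5 31 40 14080 b J = true := fun b h1 h2 =>
  if h : b < 320 then lo_319_320 b h1 h else lo_320_321 b (Nat.le_of_not_lt h) h2
theorem lo_321_322 : ∀ b, 321 ≤ b → b < 322 → ∃ J, chkPBlk P 5 31 40 14080 b J = true := fun b h1 h2 => by
  have hb : b = 321 := Nat.le_antisymm (Nat.le_of_lt_succ h2) h1
  subst hb; exact ⟨_, lblk_321⟩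
theorem lo_322_323 : ∀ b, 322 ≤ b → b < 323 → ∃ J, chkPBlk P 5 31 40 14080 b J = true := fun b h1 h2 => by
  have hb : b = 322 := Nat.le_antisymm (Nat.le_of_lt_succ h2) h1
  subst hb; exact ⟨_, lblk_322⟩
theorem lo_323_324 : ∀ b, 323 ≤ b → b < 324 → ∃ J, chkPBlk P 5 31 40 14080 b J = true := fun b h1 h2 => by
  have hb : b = 323 := Nat.le_antisymm (Nat.le_of_lt_succ h2) h1
  subst hb; exact ⟨_, lblk_323⟩
theorem lo_322_324 : ∀ b, 322 ≤ b → b < 324 → ∃ J, chkPBlk P 5 31 40 14080 b J = true := fun b h1 h2 =>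
  if h : b < 323 then lo_322_323 b h1 h else lo_323_324 b (Nat.le_of_not_lt h) h2
theorem lo_321_324 : ∀ b, 321 ≤ b → b < 324 → ∃ J, chkPBlk P 5 31 40 14080 b J = true := fun b h1 h2 =>
  if h : b < 322 then lo_321_322 b h1 h else lo_322_324 b (Nat.le_of_not_lt h) h2
theorem lo_319_324 : ∀ b, 319 ≤ b → b < 324 → ∃ J, chkPBlk P 5 31 40 14080 b J = true := fun b h1 h2 =>
  if h : b < 321 then lo_319_321 b h1 h else lo_321_324 b (Nat.le_of_not_lt h) h2
theorem lo_324_325 : ∀ b, 324 ≤ b → b < 325 → ∃ J, chkPBlk P 5 31 40 14080 b J = true := fun b h1 h2 => by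
  have hb : b = 324 := Nat.le_antisymm (Nat.le_of_lt_succ h2) h1
  subst hb; exact ⟨_, lblk_324⟩
theorem lo_325_326 : ∀ b, 325 ≤ b → b < 326 → ∃ J, chkPBlk P 5 31 40 14080 b J = true := fun b h1 h2 => by
  have hb : b = 325 := Nat.le_antisymm (Nat.le_of_lt_succ h2) h1
  subst hb; exact ⟨_, lblk_325⟩
theorem lo_326_327 : ∀ b, 326 ≤ b → b < 327 → ∃ J, chkPBlk P 5 31 40 14080 b J = true := fun b h1 h2 => by
  have hb : b = 326 := Nat.le_antisymm (Nat.le_of_lt_succ h2) h1
  subst hb; exact ⟨_, lblk_326⟩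
theorem lo_325_327 : ∀ b, 325 ≤ b → b < 327 → ∃ J, chkPBlk P 5 31 40 14080 b J = true := fun b h1 h2 =>
  if h : b < 326 then lo_325_326 b h1 h else lo_326_327 b (Nat.le_of_not_lt h) h2
theorem lo_324_327 : ∀ b, 324 ≤ b → b < 327 → ∃ J, chkPBlk P 5 31 40 14080 b J = true := fun b h1 h2 =>
  if h : b < 325 then lo_324_325 b h1 h else lo_325_327 b (Nat.le_of_not_lt h) h2
theorem lo_327_328 : ∀ b, 327 ≤ b → b < 328 → ∃ J, chkPBlk P 5 31 40 14080 b J = true := fun b h1 h2 => by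
  have hb : b = 327 := Nat.le_antisymm (Nat.le_of_lt_succ h2) h1
  subst hb; exact ⟨_, lblk_327⟩
theorem lo_328_329 : ∀ b, 328 ≤ b → b < 329 → ∃ J, chkPBlk P 5 31 40 14080 b J = true := fun b h1 h2 => by
  have hb : b = 328 := Nat.le_antisymm (Nat.le_of_lt_succ h2) h1
  subst hb; exact ⟨_, lblk_328⟩
theorem lo_329_330 : ∀ b, 329 ≤ b → b < 330 → ∃ J, chkPBlk P 5 31 40 14080 b J = true := fun b h1 h2 => by
  have hb : b = 329 := Nat.le_antisymm (Nat.le_of_lt_succ h2) h1
  subst hb; exact ⟨_, lblk_329⟩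
theorem lo_328_330 : ∀ b, 328 ≤ b → b < 330 → ∃ J, chkPBlk P 5 31 40 14080 b J = true := fun b h1 h2 =>
  if h : b < 329 then lo_328_329 b h1 h else lo_329_330 b (Nat.le_of_not_lt h) h2
theorem lo_327_330 : ∀ b, 327 ≤ b → b < 330 → ∃ J, chkPBlk P 5 31 40 14080 b J = true := fun b h1 h2 =>
  if h : b < 328 then lo_327_328 b h1 h else lo_328_330 b (Nat.le_of_not_lt h) h2
theorem lo_324_330 : ∀ b, 324 ≤ b → b < 330 → ∃ J, chkPBlk P 5 31 40 14080 b J = true := fun b h1 h2 =>
  if h : b < 327 then lo_324_327 b h1 h else lo_327_330 b (Nat.le_of_not_lt h) h2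
theorem lo_319_330 : ∀ b, 319 ≤ b → b < 330 → ∃ J, chkPBlk P 5 31 40 14080 b J = true := fun b h1 h2 =>
  if h : b < 324 then lo_319_324 b h1 h else lo_324_330 b (Nat.le_of_not_lt h) h2
theorem lo_308_330 : ∀ b, 308 ≤ b → b < 330 → ∃ J, chkPBlk P 5 31 40 14080 b J = true := fun b h1 h2 =>
  if h : b < 319 then lo_308_319 b h1 h else lo_319_330 b (Nat.le_of_not_lt h) h2
theorem lo_330_331 : ∀ b, 330 ≤ b → b < 331 → ∃ J, chkPBlk P 5 31 40 14080 b J = true := fun b h1 h2 => by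
  have hb : b = 330 := Nat.le_antisymm (Nat.le_of_lt_succ h2) h1
  subst hb; exact ⟨_, lblk_330⟩
theorem lo_331_332 : ∀ b, 331 ≤ b → b < 332 → ∃ J, chkPBlk P 5 31 40 14080 b J = true := fun b h1 h2 => by
  have hb : b = 331 := Nat.le_antisymm (Nat.le_of_lt_succ h2) h1
  subst hb; exact ⟨_, lblk_331⟩
theorem lo_330_332 : ∀ b, 330 ≤ b → b < 332 → ∃ J, chkPBlk P 5 31 40 14080 b J = true := fun b h1 h2 =>
  if h : b < 331 then lo_330_331 b h1 h else lo_331_332 b (Nat.le_of_not_lt h) h2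
theorem lo_332_333 : ∀ b, 332 ≤ b → b < 333 → ∃ J, chkPBlk P 5 31 40 14080 b J = true := fun b h1 h2 => by
  have hb : b = 332 := Nat.le_antisymm (Nat.le_of_lt_succ h2) h1
  subst hb; exact ⟨_, lblk_332⟩
theorem lo_333_334 : ∀ b, 333 ≤ b → b < 334 → ∃ J, chkPBlk P 5 31 40 14080 b J = true := fun b h1 h2 => by
  have hb : b = 333 := Nat.le_antisymm (Nat.le_of_lt_succ h2) h1
  subst hb; exact ⟨_, lblk_333⟩
theorem lo_334_335 : ∀ b, 334 ≤ b → b < 335 → ∃ J, chkPBlk P 5 31 40 14080 b J = true := fun b h1 h2 => by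
  have hb : b = 334 := Nat.le_antisymm (Nat.le_of_lt_succ h2) h1
  subst hb; exact ⟨_, lblk_334⟩
theorem lo_333_335 : ∀ b, 333 ≤ b → b < 335 → ∃ J, chkPBlk P 5 31 40 14080 b J = true := fun b h1 h2 =>
  if h : b < 334 then lo_333_334 b h1 h else lo_334_335 b (Nat.le_of_not_lt h) h2
theorem lo_332_335 : ∀ b, 332 ≤ b → b < 335 → ∃ J, chkPBlk P 5 31 40 14080 b J = true := fun b h1 h2 =>
  if h : b < 333 then lo_332_333 b h1 h else lo_333_335 b (Nat.le_of_not_lt h) h2
theorem lo_330_335 : ∀ b, 330 ≤ b → b < 335 → ∃ J, chkPBlk P 5 31 40 14080 b J = true := fun b h1 h2 =>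
  if h : b < 332 then lo_330_332 b h1 h else lo_332_335 b (Nat.le_of_not_lt h) h2
theorem lo_335_336 : ∀ b, 335 ≤ b → b < 336 → ∃ J, chkPBlk P 5 31 40 14080 b J = true := fun b h1 h2 => by
  have hb : b = 335 := Nat.le_antisymm (Nat.le_of_lt_succ h2) h1
  subst hb; exact ⟨_, lblk_335⟩
theorem lo_336_337 : ∀ b, 336 ≤ b → b < 337 → ∃ J, chkPBlk P 5 31 40 14080 b J = true := fun b h1 h2 => by
  have hb : b = 336 := Nat.le_antisymm (Nat.le_of_lt_succ h2) h1
  subst hb; exact ⟨_, lblk_336⟩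
theorem lo_337_338 : ∀ b, 337 ≤ b → b < 338 → ∃ J, chkPBlk P 5 31 40 14080 b J = true := fun b h1 h2 => by
  have hb : b = 337 := Nat.le_antisymm (Nat.le_of_lt_succ h2) h1
  subst hb; exact ⟨_, lblk_337⟩
theorem lo_336_338 : ∀ b, 336 ≤ b → b < 338 → ∃ J, chkPBlk P 5 31 40 14080 b J = true := fun b h1 h2 =>
  if h : b < 337 then lo_336_337 b h1 h else lo_337_338 b (Nat.le_of_not_lt h) h2
theorem lo_335_338 : ∀ b, 335 ≤ b → b < 338 → ∃ J, chkPBlk P 5 31 40 14080 b J = true := fun b h1 h2 =>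
  if h : b < 336 then lo_335_336 b h1 h else lo_336_338 b (Nat.le_of_not_lt h) h2
theorem lo_338_339 : ∀ b, 338 ≤ b → b < 339 → ∃ J, chkPBlk P 5 31 40 14080 b J = true := fun b h1 h2 => by
  have hb : b = 338 := Nat.le_antisymm (Nat.le_of_lt_succ h2) h1
  subst hb; exact ⟨_, lblk_338⟩
theorem lo_339_340 : ∀ b, 339 ≤ b → b < 340 → ∃ J, chkPBlk P 5 31 40 14080 b J = true := fun b h1 h2 => by
  have hb : b = 339 := Nat.le_antisymm (Nat.le_of_lt_succ h2) h1
  subst hb; exact ⟨_, lblk_339⟩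
theorem lo_340_341 : ∀ b, 340 ≤ b → b < 341 → ∃ J, chkPBlk P 5 31 40 14080 b J = true := fun b h1 h2 => by
  have hb : b = 340 := Nat.le_antisymm (Nat.le_of_lt_succ h2) h1
  subst hb; exact ⟨_, lblk_340⟩
theorem lo_339_341 : ∀ b, 339 ≤ b → b < 341 → ∃ J, chkPBlk P 5 31 40 14080 b J = true := fun b h1 h2 =>
  if h : b < 340 then lo_339_340 b h1 h else lo_340_341 b (Nat.le_of_not_lt h) h2
theorem lo_338_341 : ∀ b, 338 ≤ b → b < 341 → ∃ J, chkPBlk P 5 31 40 14080 b J = true := fun b h1 h2 =>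
  if h : b < 339 then lo_338_339 b h1 h else lo_339_341 b (Nat.le_of_not_lt h) h2
theorem lo_335_341 : ∀ b, 335 ≤ b → b < 341 → ∃ J, chkPBlk P 5 31 40 14080 b J = true := fun b h1 h2 =>
  if h : b < 338 then lo_335_338 b h1 h else lo_338_341 b (Nat.le_of_not_lt h) h2
theorem lo_330_341 : ∀ b, 330 ≤ b → b < 341 → ∃ J, chkPBlk P 5 31 40 14080 b J = true := fun b h1 h2 =>
  if h : b < 335 then lo_330_335 b h1 h else lo_335_341 b (Nat.le_of_not_lt h) h2
theorem lo_341_342 : ∀ b, 341 ≤ b → b < 342 → ∃ J, chkPBlk P 5 31 40 14080 b J = true := fun b h1 h2 => by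
  have hb : b = 341 := Nat.le_antisymm (Nat.le_of_lt_succ h2) h1
  subst hb; exact ⟨_, lblk_341⟩
theorem lo_342_343 : ∀ b, 342 ≤ b → b < 343 → ∃ J, chkPBlk P 5 31 40 14080 b J = true := fun b h1 h2 => by
  have hb : b = 342 := Nat.le_antisymm (Nat.le_of_lt_succ h2) h1
  subst hb; exact ⟨_, lblk_342⟩
theorem lo_341_343 : ∀ b, 341 ≤ b → b < 343 → ∃ J, chkPBlk P 5 31 40 14080 b J = true := fun b h1 h2 =>
  if h : b < 342 then lo_341_342 b h1 h else lo_342_343 b (Nat.le_of_not_lt h) h2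
theorem lo_343_344 : ∀ b, 343 ≤ b → b < 344 → ∃ J, chkPBlk P 5 31 40 14080 b J = true := fun b h1 h2 => by
  have hb : b = 343 := Nat.le_antisymm (Nat.le_of_lt_succ h2) h1
  subst hb; exact ⟨_, lblk_343⟩
theorem lo_344_345 : ∀ b, 344 ≤ b → b < 345 → ∃ J, chkPBlk P 5 31 40 14080 b J = true := fun b h1 h2 => by
  have hb : b = 344 := Nat.le_antisymm (Nat.le_of_lt_succ h2) h1
  subst hb; exact ⟨_, lblk_344⟩
theorem lo_345_346 : ∀ b, 345 ≤ b → b < 346 → ∃ J, chkPBlk P 5 31 40 14080 b J = true := fun b h1 h2 => by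
  have hb : b = 345 := Nat.le_antisymm (Nat.le_of_lt_succ h2) h1
  subst hb; exact ⟨_, lblk_345⟩
theorem lo_344_346 : ∀ b, 344 ≤ b → b < 346 → ∃ J, chkPBlk P 5 31 40 14080 b J = true := fun b h1 h2 =>
  if h : b < 345 then lo_344_345 b h1 h else lo_345_346 b (Nat.le_of_not_lt h) h2
theorem lo_343_346 : ∀ b, 343 ≤ b → b < 346 → ∃ J, chkPBlk P 5 31 40 14080 b J = true := fun b h1 h2 =>
  if h : b < 344 then lo_343_344 b h1 h else lo_344_346 b (Nat.le_of_not_lt h) h2
theorem lo_341_346 : ∀ b, 341 ≤ b → b < 346 → ∃ J, chkPBlk P 5 31 40 14080 b J = true := fun b h1 h2 =>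
  if h : b < 343 then lo_341_343 b h1 h else lo_343_346 b (Nat.le_of_not_lt h) h2
theorem lo_346_347 : ∀ b, 346 ≤ b → b < 347 → ∃ J, chkPBlk P 5 31 40 14080 b J = true := fun b h1 h2 => by
  have hb : b = 346 := Nat.le_antisymm (Nat.le_of_lt_succ h2) h1
  subst hb; exact ⟨_, lblk_346⟩
theorem lo_347_348 : ∀ b, 347 ≤ b → b < 348 → ∃ J, chkPBlk P 5 31 40 14080 b J = true := fun b h1 h2 => by
  have hb : b = 347 := Nat.le_antisymm (Nat.le_of_lt_succ h2) h1
  subst hb; exact ⟨_, lblk_347⟩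
theorem lo_348_349 : ∀ b, 348 ≤ b → b < 349 → ∃ J, chkPBlk P 5 31 40 14080 b J = true := fun b h1 h2 => by
  have hb : b = 348 := Nat.le_antisymm (Nat.le_of_lt_succ h2) h1
  subst hb; exact ⟨_, lblk_348⟩
theorem lo_347_349 : ∀ b, 347 ≤ b → b < 349 → ∃ J, chkPBlk P 5 31 40 14080 b J = true := fun b h1 h2 =>
  if h : b < 348 then lo_347_348 b h1 h else lo_348_349 b (Nat.le_of_not_lt h) h2
theorem lo_346_349 : ∀ b, 346 ≤ b → b < 349 → ∃ J, chkPBlk P 5 31 40 14080 b J = true := fun b h1 h2 =>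
  if h : b < 347 then lo_346_347 b h1 h else lo_347_349 b (Nat.le_of_not_lt h) h2
theorem lo_349_350 : ∀ b, 349 ≤ b → b < 350 → ∃ J, chkPBlk P 5 31 40 14080 b J = true := fun b h1 h2 => by
  have hb : b = 349 := Nat.le_antisymm (Nat.le_of_lt_succ h2) h1
  subst hb; exact ⟨_, lblk_349⟩
theorem lo_350_351 : ∀ b, 350 ≤ b → b < 351 → ∃ J, chkPBlk P 5 31 40 14080 b J = true := fun b h1 h2 => by
  have hb : b = 350 := Nat.le_antisymm (Nat.le_of_lt_succ h2) h1
  subst hb; exact ⟨_, lblk_350⟩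
theorem lo_351_352 : ∀ b, 351 ≤ b → b < 352 → ∃ J, chkPBlk P 5 31 40 14080 b J = true := fun b h1 h2 => by
  have hb : b = 351 := Nat.le_antisymm (Nat.le_of_lt_succ h2) h1
  subst hb; exact ⟨_, lblk_351⟩
theorem lo_350_352 : ∀ b, 350 ≤ b → b < 352 → ∃ J, chkPBlk P 5 31 40 14080 b J = true := fun b h1 h2 =>
  if h : b < 351 then lo_350_351 b h1 h else lo_351_352 b (Nat.le_of_not_lt h) h2
theorem lo_349_352 : ∀ b, 349 ≤ b → b < 352 → ∃ J, chkPBlk P 5 31 40 14080 b J = true := fun b h1 h2 =>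
  if h : b < 350 then lo_349_350 b h1 h else lo_350_352 b (Nat.le_of_not_lt h) h2
theorem lo_346_352 : ∀ b, 346 ≤ b → b < 352 → ∃ J, chkPBlk P 5 31 40 14080 b J = true := fun b h1 h2 =>
  if h : b < 349 then lo_346_349 b h1 h else lo_349_352 b (Nat.le_of_not_lt h) h2
theorem lo_341_352 : ∀ b, 341 ≤ b → b < 352 → ∃ J, chkPBlk P 5 31 40 14080 b J = true := fun b h1 h2 =>
  if h : b < 346 then lo_341_346 b h1 h else lo_346_352 b (Nat.le_of_not_lt h) h2
theorem lo_330_352 : ∀ b, 330 ≤ b → b < 352 → ∃ J, chkPBlk P 5 31 40 14080 b J = true := fun b h1 h2 =>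
  if h : b < 341 then lo_330_341 b h1 h else lo_341_352 b (Nat.le_of_not_lt h) h2
theorem lo_308_352 : ∀ b, 308 ≤ b → b < 352 → ∃ J, chkPBlk P 5 31 40 14080 b J = true := fun b h1 h2 =>
  if h : b < 330 then lo_308_330 b h1 h else lo_330_352 b (Nat.le_of_not_lt h) h2
theorem lo_264_352 : ∀ b, 264 ≤ b → b < 352 → ∃ J, chkPBlk P 5 31 40 14080 b J = true := fun b h1 h2 =>
  if h : b < 308 then lo_264_308 b h1 h else lo_308_352 b (Nat.le_of_not_lt h) h2

end Cfsg.Agent.Lib.Helper29.S1685
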